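import Cfsg.Agent.H687.Good
import Cfsg.Agent.Blocks.FullDefect
import Cfsg.Agent.Blocks.Basic
import Cfsg.Agent.Blocks.ExistsModular
import Cfsg.Agent.S0910
import Cfsg.Agent.S4613
import Cfsg.Agent.S5012

/-!
# Characters of degree a power of the defining characteristic (helper949)

* `defect_zero_of_pow` : `S` simple of Lie type in characteristic `r`, `χ ≠ 1` irreducible of degree a power of `r`:
  `χ` has `r`-defect zero.
-/

set_option autoImplicit false

namespace Cfsg.Agent.H949.LieDZ

open Cfsg
open Cfsg.Agent.Blocks.Local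

universe u

/-- if no nontrivial `r`-regular element centralizes a Sylow subgroup, the characters of degree prime to `r` are in the
principal block -/
theorem sameBlock_one {S : Type u} [Group S] [Finite S] {r : ℕ} [Fact r.Prime] {M : Ideal AlgInt} (hM : IsPModular r M)
    (P : Sylow r S) (hP : ∀ y ∈ Subgroup.centralizer (P : Set S), ¬ r ∣ orderOf y → y = 1) (χ : IrrCharacter S)
    (hχ : ¬ r ∣ charDegree (χ : S → ℂ)) : SameBlock M (χ : S → ℂ) (fun _ => 1) := by
  have := isPrime_of_isPModular hM
  have h1 := Characters.Core.isIrr_apply_one_ne_zero χ.2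
  intro g
  by_cases hg : r ∣ (Subgroup.centralizer ({g} : Set S)).index
  · have h2 : MemLocalIdeal M ((Subgroup.centralizer ({g} : Set S)).index : ℂ) :=
      (memLocalIdeal_natCast_iff hM _).2 hg
    refine memLocalIdeal_sub ?_ ?_
    · unfold centralChar
      rw [mul_div_assoc]
      exact memLocalIdeal_mul_right h2 (Blocks.FullDefect.memLocalRing_div_one hM χ hχ g)
    · unfold centralChar
      rw [mul_one, div_one]
      exact h2
  · obtain ⟨y, hy, hyr, hc⟩ := Blocks.FullDefect.exists_regular_congr hM P hg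
    rw [hP y hy hyr] at hc
    have h3 : centralChar (χ : S → ℂ) g - centralChar (fun _ : S => (1 : ℂ)) g =
        ((Subgroup.centralizer ({g} : Set S)).index : ℂ) * ((χ : S → ℂ) 1)⁻¹ * ((χ : S → ℂ) g - (χ : S → ℂ) 1) := by
      unfold centralChar
      field_simp
    rw [h3]
    exact memLocalIdeal_mul_left (memLocalRing_mul (memLocalRing_natCast _)
      (Blocks.FullDefect.memLocalRing_inv_one hM χ hχ)) (hc χ)

/-- a nonabelian simple group has trivial centre -/
theorem center_eq_bot {S : Type u} [Group S] [IsSimpleGroup S] (hna : ∃ a b : S, a * b ≠ b * a) :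
    Subgroup.center S = ⊥ := by
  rcases (inferInstance : (Subgroup.center S).Normal).eq_bot_or_eq_top with h | h
  · exact h
  · obtain ⟨a, b, hab⟩ := hna
    have : b ∈ Subgroup.center S := by rw [h]; trivial
    exact absurd (Subgroup.mem_center_iff.1 this a) hab

/-- no nontrivial `r`-regular element centralizes a Sylow `r`-subgroup -/
theorem regular_centralizer {S : Type u} [Group S] [Finite S] [IsSimpleGroup S] (hna : ∃ a b : S, a * b ≠ b * a)
    {r : ℕ} [Fact r.Prime] (hS : IsLieTypeChar r S) (P : Sylow r S) {y : S}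
    (hy : y ∈ Subgroup.centralizer (P : Set S)) (hyr : ¬ r ∣ orderOf y) : y = 1 := by
  have h1 : MulAut.conj y = 1 := by
    refine S4613.result r hS (MulAut.conj y) (fun h => hyr (h.trans ?_)) P ?_
    · exact orderOf_map_dvd _ y
    · intro x hx
      rw [MulAut.conj_apply, Subgroup.mem_centralizer_iff.1 hy x hx |>.symm, mul_inv_cancel_right]
  have h2 : y ∈ Subgroup.center S := by
    rw [Subgroup.mem_center_iff]
    intro g
    have h3 : y * g * y⁻¹ = g := by
      rw [← MulAut.conj_apply, h1]
      rfl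
    rw [mul_inv_eq_iff_eq_mul] at h3
    exact h3.symm
  rw [center_eq_bot hna] at h2
  exact h2

/-- **A nontrivial irreducible character of degree a power of the defining characteristic has defect zero.** -/
theorem defect_zero_of_pow {S : Type u} [Group S] [Finite S] [IsSimpleGroup S] (hna : ∃ a b : S, a * b ≠ b * a)
    {r : ℕ} (hr : r.Prime) (hS : IsLieTypeChar r S) {χ : S → ℂ} (hχ : IsIrrCharacter S χ) (h1 : χ ≠ 1) {k : ℕ}
    (hk : charDegree χ = r ^ k) : r ^ (Nat.card S).factorization r ∣ charDegree χ := by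
  have : Fact r.Prime := ⟨hr⟩
  obtain ⟨M, hM⟩ := Blocks.ExistsModular.exists_isPModular hr
  have := isPrime_of_isPModular hM
  obtain ⟨B, hB⟩ : ∃ B, B = blockOf M χ := ⟨_, rfl⟩
  let χ' : IrrCharacter S := ⟨χ, hχ⟩
  have hBb : IsPBlock M B := ⟨χ', hB⟩
  have hχB : χ' ∈ B := by rw [hB]; exact Blocks.Basic.mem_blockOf_self χ'
  obtain ⟨a, ha⟩ : ∃ a, a = (Nat.card S).factorization r := ⟨_, rfl⟩
  obtain ⟨m, hm⟩ : ∃ m, m = sInf ((fun χ : IrrCharacter S => (charDegree (χ : S → ℂ)).factorization r) '' B) := ⟨_, rfl⟩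
  have hle : m ≤ (charDegree χ).factorization r := by
    rw [hm]
    exact Nat.sInf_le ⟨χ', hχB, rfl⟩
  have hbd : blockDefect r B = a - m := by rw [ha, hm]; rfl
  have hkey : a ≤ (charDegree χ).factorization r → r ^ (Nat.card S).factorization r ∣ charDegree χ := by
    intro h
    rw [← ha, hk]
    rw [hk, Nat.Prime.factorization_pow hr, Finsupp.single_eq_same] at h
    exact pow_dvd_pow r h
  rcases S5012.result r hS M hM B hBb with h0 | h0
  · rw [hbd] at h0
    exact hkey (by omega)
  · rw [hbd, ← ha] at h0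
    by_cases ha0 : a = 0
    · exact hkey (by omega)
    have hm0 : m = 0 := by omega
    exfalso
    have hne : ((fun χ : IrrCharacter S => (charDegree (χ : S → ℂ)).factorization r) '' B).Nonempty := ⟨_, ⟨χ', hχB, rfl⟩⟩
    obtain ⟨ψ, hψB, hψ⟩ := Nat.sInf_mem hne
    rw [← hm, hm0] at hψ
    have hψ : (charDegree (ψ : S → ℂ)).factorization r = 0 := hψ
    have hψ0 : ¬ r ∣ charDegree (ψ : S → ℂ) := by
      intro h
      have h2 : charDegree (ψ : S → ℂ) ≠ 0 := by
        intro h3
        have h4 := H687.Irr.one_eq ψ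
        rw [h3, Nat.cast_zero] at h4
        exact Characters.Core.isIrr_apply_one_ne_zero ψ.2 h4
      exact (hr.factorization_pos_of_dvd h2 h).ne' hψ
    have h3 := sameBlock_one hM (default : Sylow r S) (fun y hy hyr => regular_centralizer hna hS _ hy hyr) ψ hψ0
    have h4 : SameBlock M (ψ : S → ℂ) χ := Blocks.Basic.isPBlock_sameBlock hBb hψB hχB
    have h5 : χ' ∈ principalBlock M S := Blocks.Basic.sameBlock_trans (Blocks.Basic.sameBlock_symm h3) h4
    refine h1 (S0910.result r M hM hna χ' h5 k ?_)
    show χ 1 = (r : ℂ) ^ k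
    rw [H687.charDegree_eq (Characters.Core.isIrr_isCharacter hχ), hk]
    push_cast
    rfl

end Cfsg.Agent.H949.LieDZ
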