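import Cfsg.Agent.H949.FxCount
import Cfsg.Agent.S2476
import Cfsg.Agent.S0243
import Cfsg.Agent.LThreeFour.Exists
import Cfsg.Agent.LThreeFour.Facts

/-!
# `PSL(3, 4)`: no subgroup of even order all of whose non-identity elements fix at most 4 cosets (helper949)
-/

set_option autoImplicit false
set_option linter.style.haveILetI false
set_option linter.unusedVariables false
set_option linter.unusedSectionVars false

namespace Cfsg.Agent.H949.FxL34

open Subgroup Cfsg.Agent.H254.Ev Cfsg.Agent.H949.FxCount Cfsg.Agent.H350.Fix Cfsg.Agent.H254.Fx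
open Cfsg.Agent.EvenType.StrongP (mem_map_conj)

/-- element orders -/
def Ord (G : Type*) [Group G] : Prop :=
  ∀ g : G, orderOf g = 1 ∨ orderOf g = 2 ∨ orderOf g = 3 ∨ orderOf g = 4 ∨ orderOf g = 5 ∨ orderOf g = 7

section general

variable {G : Type*} [Group G]

theorem Ord.no_comm (h : Ord G) {p q : ℕ} (hp : p.Prime) (hq : q.Prime) (hne : p ≠ q) {x y : G}
    (hx : orderOf x = p) (hy : orderOf y = q) (hc : x * y = y * x) : False := by
  have h1 : orderOf (x * y) = p * q := by
    rw [← hx, ← hy]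
    refine Commute.orderOf_mul_eq_mul_orderOf_of_coprime hc ?_
    rw [hx, hy]
    exact (Nat.coprime_primes hp hq).2 hne
  have h2 := hp.two_le
  have h3 := hq.two_le
  have h4 : p * q ≤ 7 := by
    rcases h (x * y) with h | h | h | h | h | h <;> omega
  have h5 : p ≤ 3 := by nlinarith
  have h6 : q ≤ 3 := by nlinarith
  have h7 := h (x * y)
  rw [h1] at h7
  interval_cases p <;> interval_cases q <;> first | exact hne rfl | omega

theorem Ord.sub (h : Ord G) (H : Subgroup G) : Ord H := by
  intro g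
  rw [← Subgroup.orderOf_coe]
  exact h _

theorem sylow_card [Finite G] {p : ℕ} [hp : Fact p.Prime] (P : Sylow p G) {a b : ℕ}
    (h : Nat.card G = p ^ a * b) (hb : ¬ p ∣ b) : Nat.card (P : Subgroup G) = p ^ a := by
  have h1 := P.card_eq_multiplicity
  rw [h, Nat.factorization_mul (pow_ne_zero _ hp.out.ne_zero) (by rintro rfl; simp at hb),
    Nat.Prime.factorization_pow hp.out, Finsupp.add_apply, Finsupp.single_eq_same,
    Nat.factorization_eq_zero_of_not_dvd hb, add_zero] at h1
  exact h1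

/-- normalizer of a Sylow subgroup of prime order and the Sylow congruence -/
theorem Ord.sylow [Finite G] (ho : Ord G) {p : ℕ} [hp : Fact p.Prime] (P : Sylow p G)
    (hP : Nat.card (P : Subgroup G) = p) :
    ∃ m c, m ∣ p - 1 ∧ Nat.card (normalizer ((P : Subgroup G) : Set G)) = p * m ∧
      c % p = 1 ∧ c * (p * m) = Nat.card G := by
  obtain ⟨z, hz, hz1⟩ := exists_ne_one (X := (P : Subgroup G)) (by
    intro h
    rw [h, card_bot] at hP
    exact hp.out.one_lt.ne hP)
  have hzo : orderOf z = p := by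
    have h1 : orderOf z ∣ p := by
      rw [← hP, ← Subgroup.orderOf_mk z hz]
      exact orderOf_dvd_natCard _
    rcases (Nat.dvd_prime hp.out).1 h1 with h | h
    · exact absurd (orderOf_eq_one_iff.1 h) hz1
    · exact h
  obtain ⟨m, hm, hN⟩ := sylow_norm P hP (by
    intro g hg q hq hne hgo
    rw [mem_centralizer_iff] at hg
    exact ho.no_comm hp.out hq hne.symm hzo hgo (hg z hz))
  refine ⟨m, Nat.card (Sylow p G), hm, hN, ?_, ?_⟩
  · have h2 := card_sylow_modEq_one p G
    unfold Nat.ModEq at h2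
    rw [h2]
    exact Nat.mod_eq_of_lt hp.out.one_lt
  · rw [P.card_eq_index_normalizer, ← hN]
    exact (normalizer ((P : Subgroup G) : Set G)).index_mul_card

theorem mem_norm_map {H : Subgroup G} {K : Subgroup H} (x : H) :
    (x : G) ∈ normalizer (K.map H.subtype : Set G) ↔ x ∈ normalizer (K : Set H) := by
  have h0 : ∀ y : H, (y : G) ∈ K.map H.subtype ↔ y ∈ K := by
    intro y
    constructor
    · rintro ⟨z, hz, hzy⟩
      have : z = y := Subtype.ext hzy
      rwa [← this]
    · intro hy; exact ⟨y, hy, rfl⟩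
  rw [mem_normalizer_iff, mem_normalizer_iff]
  constructor
  · intro h y
    have := h y
    rw [h0] at this
    rw [this, ← h0]
    rfl
  · intro h y
    by_cases hy : y ∈ H
    · have := h ⟨y, hy⟩
      rw [← h0, ← h0] at this
      exact this
    · constructor
      · rintro ⟨z, hz, rfl⟩
        exact absurd z.2 hy
      · rintro ⟨z, hz, hzy⟩
        exfalso
        apply hy
        have h1 : y = (x : G)⁻¹ * z * x := by
          have h2 : (z : G) = x * y * (x : G)⁻¹ := hzy
          rw [h2]; group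
        rw [h1]
        exact H.mul_mem (H.mul_mem (H.inv_mem x.2) z.2) x.2

/-- in a group of order `20160` with these element orders the normalizer of a Sylow 7-subgroup has order 21 -/
theorem Ord.norm_seven [Finite G] (ho : Ord G) (hG : Nat.card G = 20160) (P : Subgroup G)
    (hP : Nat.card P = 7) : Nat.card (normalizer (P : Set G)) = 21 := by
  haveI : Fact (Nat.Prime 7) := ⟨by norm_num⟩
  have h1 : IsPGroup 7 P := IsPGroup.of_card (n := 1) (by rw [hP, pow_one])
  have h2 : ¬ 7 ∣ P.index := by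
    intro h
    have h3 := P.card_mul_index
    rw [hP, hG] at h3
    omega
  obtain ⟨m, c, hm, hN, hc, hcm⟩ := ho.sylow (h1.toSylow h2) (by rw [IsPGroup.toSylow_coe]; exact hP)
  rw [IsPGroup.toSylow_coe] at hN
  rw [hG] at hcm
  have h3 : m ≤ 6 := Nat.le_of_dvd (by norm_num) hm
  rw [hN]
  interval_cases m
  · omega
  · omega
  · omega
  · omega
  · omega
  · omega
  · omega

theorem Ord.seven [Finite G] (ho : Ord G) (hG : Nat.card G = 20160) (H : Subgroup G)
    (h7 : 7 ∣ Nat.card H) : ∃ m c, (m = 1 ∨ m = 3) ∧ c % 7 = 1 ∧ c * (7 * m) = Nat.card H := by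
  haveI : Fact (Nat.Prime 7) := ⟨by norm_num⟩
  obtain ⟨P⟩ : Nonempty (Sylow 7 H) := inferInstance
  have hP : Nat.card (P : Subgroup H) = 7 := by
    obtain ⟨b, hb⟩ := h7
    have h2 := sylow_card P (a := 1) (b := b) (by rw [pow_one]; exact hb) (by
      rintro ⟨c, rfl⟩
      have h3 := Subgroup.card_subgroup_dvd_card H
      rw [hb, hG] at h3
      have h4 : 49 ∣ 20160 := (Dvd.intro (c := c) (by ring)).trans h3
      omega)
    rwa [pow_one] at h2
  obtain ⟨m, c, hm, hN, hc, hcm⟩ := (ho.sub H).sylow P hP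
  refine ⟨m, c, ?_, hc, hcm⟩
  have h3 : ¬ 2 ∣ m := by
    intro h2
    haveI : Fact (Nat.Prime 2) := ⟨Nat.prime_two⟩
    have h4 : 2 ∣ Nat.card (normalizer ((P : Subgroup H) : Set H)) := by
      rw [hN]; exact h2.mul_left _
    obtain ⟨u, hu⟩ := exists_prime_orderOf_dvd_card' 2 h4
    have h5 := (mem_norm_map (K := (P : Subgroup H)) (u : H)).2 u.2
    have h6 := ho.norm_seven hG ((P : Subgroup H).map H.subtype) (by
      rw [Subgroup.card_map_of_injective H.subtype_injective, hP])
    have h7 : orderOf (((u : H) : G)) = 2 := by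
      rw [Subgroup.orderOf_coe, Subgroup.orderOf_coe]; exact hu
    have h8 : 2 ∣ 21 := by
      rw [← h6, ← h7]
      exact orderOf_dvd_card_of_mem h5
    omega
  have h4 : m ≤ 6 := Nat.le_of_dvd (by norm_num) hm
  have h5 : m ∣ 6 := hm
  interval_cases m
  all_goals omega

/-- `5`-arithmetic -/
theorem Ord.five [Finite G] (ho : Ord G) (hG : Nat.card G = 20160) (H : Subgroup G)
    (h5 : 5 ∣ Nat.card H) : ∃ m c, m ∣ 4 ∧ c % 5 = 1 ∧ c * (5 * m) = Nat.card H := by
  haveI : Fact (Nat.Prime 5) := ⟨by norm_num⟩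
  obtain ⟨P⟩ : Nonempty (Sylow 5 H) := inferInstance
  have hP : Nat.card (P : Subgroup H) = 5 := by
    obtain ⟨b, hb⟩ := h5
    have h2 := sylow_card P (a := 1) (b := b) (by rw [pow_one]; exact hb) (by
      rintro ⟨c, rfl⟩
      have h3 := Subgroup.card_subgroup_dvd_card H
      rw [hb, hG] at h3
      have h4 : 25 ∣ 20160 := (Dvd.intro (c := c) (by ring)).trans h3
      omega)
    rwa [pow_one] at h2
  obtain ⟨m, c, hm, hN, hc, hcm⟩ := (ho.sub H).sylow P hP
  exact ⟨m, c, hm, hc, hcm⟩

/-- elements of order 3: `18` divides the order of the normalizer -/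
theorem Ord.norm_three [Finite G] (ho : Ord G) (hG : Nat.card G = 20160) (X : Subgroup G)
    (hX : Nat.card X = 3) : 18 ∣ Nat.card (normalizer (X : Set G)) := by
  classical
  haveI : Fact (Nat.Prime 3) := ⟨Nat.prime_three⟩
  haveI : Fact (Nat.Prime 2) := ⟨Nat.prime_two⟩
  haveI : Fact (Nat.Prime 5) := ⟨Nat.prime_five⟩
  have hXp : IsPGroup 3 X := IsPGroup.of_card (n := 1) (by rw [hX, pow_one])
  obtain ⟨P, hXP⟩ := hXp.exists_le_sylow
  have hP : Nat.card (P : Subgroup G) = 9 :=
    sylow_card P (a := 2) (b := 2240) (by rw [hG]; norm_num) (by norm_num)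
  have hcomm : ∀ x ∈ (P : Subgroup G), ∀ y ∈ (P : Subgroup G), x * y = y * x := by
    intro x hx y hy
    have := (IsPGroup.isMulCommutative_of_card_eq_prime_sq (p := 3) (G := (P : Subgroup G))
      (by rw [hP]; norm_num)).is_comm.comm ⟨x, hx⟩ ⟨y, hy⟩
    exact congrArg Subtype.val this
  have hord : ∀ x ∈ (P : Subgroup G), x ≠ 1 → orderOf x = 3 := by
    intro x hx hx1
    have h1 : orderOf x ∣ 9 := by
      rw [← hP, ← Subgroup.orderOf_mk x hx]
      exact orderOf_dvd_natCard _
    rcases ho x with h | h | h | h | h | h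
    · exact absurd (orderOf_eq_one_iff.1 h) hx1
    · rw [h] at h1; omega
    · exact h
    · rw [h] at h1; omega
    · rw [h] at h1; omega
    · rw [h] at h1; omega
  -- the normalizer of `P` has even order
  obtain ⟨N, hN⟩ : ∃ N : Subgroup G, N = normalizer ((P : Subgroup G) : Set G) := ⟨_, rfl⟩
  have hNP : (P : Subgroup G) ≤ N := hN ▸ le_normalizer
  obtain ⟨m, hm⟩ : 9 ∣ Nat.card N := by
    rw [← hP]; exact card_dvd_of_le hNP
  have hs1 := card_sylow_modEq_one 3 G
  have hs2 : Nat.card (Sylow 3 G) = (normalizer ((P : Subgroup G) : Set G)).index :=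
    P.card_eq_index_normalizer
  have hs3 := (normalizer ((P : Subgroup G) : Set G)).index_mul_card
  rw [← hs2, ← hN, hm, hG] at hs3
  obtain ⟨c, hc⟩ : ∃ c, c = Nat.card (Sylow 3 G) := ⟨_, rfl⟩
  rw [← hc] at hs1 hs3
  have hs4 : c % 3 = 1 := hs1
  have hs5 : c * m = 2240 := by
    have : c * (9 * m) = 9 * (c * m) := by ring
    omega
  have h2m : 2 ∣ m := by
    by_contra hodd
    have h5m : 5 ∣ m := by
      by_contra h5
      have h1 : m ∣ 7 := by
        have h2 : m ∣ 2 ^ 6 * (5 * 7) := ⟨c, by rw [mul_comm m c, hs5]; norm_num⟩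
        have h3 : Nat.Coprime m (2 ^ 6) :=
          Nat.Coprime.pow_right 6 (((Nat.Prime.coprime_iff_not_dvd Nat.prime_two).2 hodd).symm)
        have h4 : Nat.Coprime m 5 :=
          ((Nat.Prime.coprime_iff_not_dvd Nat.prime_five).2 h5).symm
        exact h4.dvd_of_dvd_mul_left (h3.dvd_of_dvd_mul_left h2)
      rcases (Nat.dvd_prime (by norm_num)).1 h1 with h | h
      · rw [h] at hs5; omega
      · rw [h] at hs5; omega
    obtain ⟨y, hy⟩ := exists_prime_orderOf_dvd_card' (G := N) 5 (by
      rw [hm]; exact h5m.mul_left _)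
    have hyo : orderOf (y : G) = 5 := by rw [Subgroup.orderOf_coe]; exact hy
    have hyN : (y : G) ∈ normalizer ((P : Subgroup G) : Set G) := hN ▸ y.2
    obtain ⟨f, hf⟩ : ∃ f : MulAut (P : Subgroup G),
        f = (P : Subgroup G).normalizerMonoidHom ⟨(y : G), hyN⟩ := ⟨_, rfl⟩
    have hf5 : f ^ 5 = 1 := by
      rw [hf, ← map_pow]
      have : (⟨(y : G), hyN⟩ : normalizer ((P : Subgroup G) : Set G)) ^ 5 = 1 := by
        apply Subtype.ext
        show (y : G) ^ 5 = 1
        rw [← hyo]; exact pow_orderOf_eq_one _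
      rw [this, map_one]
    have hfp : IsPGroup 5 (zpowers f) := by
      rw [IsPGroup.iff_card]
      have h6 : orderOf f ∣ 5 := orderOf_dvd_of_pow_eq_one hf5
      rcases (Nat.dvd_prime Nat.prime_five).1 h6 with h | h
      · exact ⟨0, by rw [Nat.card_zpowers, h, pow_zero]⟩
      · exact ⟨1, by rw [Nat.card_zpowers, h, pow_one]⟩
    have h6 := hfp.card_modEq_card_fixedPoints (α := (P : Subgroup G))
    rw [hP] at h6
    have h7 : 1 < Nat.card (MulAction.fixedPoints (zpowers f) (P : Subgroup G)) := by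
      by_contra hle
      have h8 : Nat.card (MulAction.fixedPoints (zpowers f) (P : Subgroup G)) % 5 = 4 := h6.symm
      omega
    haveI : Nontrivial (MulAction.fixedPoints (zpowers f) (P : Subgroup G)) := by
      haveI : Finite (MulAction.fixedPoints (zpowers f) (P : Subgroup G)) := inferInstance
      exact Finite.one_lt_card_iff_nontrivial.1 h7
    have h1fix : (1 : (P : Subgroup G)) ∈ MulAction.fixedPoints (zpowers f) (P : Subgroup G) := by
      rw [MulAction.mem_fixedPoints]
      intro g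
      show (g : MulAut (P : Subgroup G)) 1 = 1
      exact map_one _
    obtain ⟨z, hz⟩ := exists_ne (⟨1, h1fix⟩ : MulAction.fixedPoints (zpowers f) (P : Subgroup G))
    have hz1 : ((z : (P : Subgroup G)) : G) ≠ 1 := by
      intro h
      apply hz
      exact Subtype.ext (Subtype.ext h)
    have hzf : f (z : (P : Subgroup G)) = z := z.2 ⟨f, mem_zpowers f⟩
    have hfw : ∀ w : (P : Subgroup G), ((f w : (P : Subgroup G)) : G) = y * w * (y : G)⁻¹ := by
      intro w; rw [hf]; rfl
    have hzc : (y : G) * ((z : (P : Subgroup G)) : G) * (y : G)⁻¹ = ((z : (P : Subgroup G)) : G) := by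
      have h9 := congrArg Subtype.val hzf
      rw [hfw] at h9
      exact h9
    refine ho.no_comm Nat.prime_three Nat.prime_five (by norm_num)
      (hord _ (z : (P : Subgroup G)).2 hz1) hyo ?_
    rw [mul_inv_eq_iff_eq_mul] at hzc
    exact hzc.symm
  obtain ⟨u, hu⟩ := exists_prime_orderOf_dvd_card' (G := N) 2 (by
    rw [hm]; exact h2m.mul_left _)
  have huo : orderOf (u : G) = 2 := by rw [Subgroup.orderOf_coe]; exact hu
  have huN : (u : G) ∈ normalizer ((P : Subgroup G) : Set G) := hN ▸ u.2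
  have huu : (u : G) * u = 1 := by
    have := pow_orderOf_eq_one (u : G)
    rw [huo, pow_two] at this
    exact this
  have hui : (u : G)⁻¹ = u := inv_eq_of_mul_eq_one_left huu
  have hinv : ∀ z ∈ (P : Subgroup G), (u : G) * z * (u : G)⁻¹ = z⁻¹ := by
    intro z hz
    have h1 : (u : G) * z * (u : G)⁻¹ ∈ (P : Subgroup G) := (mem_normalizer_iff.1 huN z).1 hz
    have h2 : z * ((u : G) * z * (u : G)⁻¹) = 1 := by
      by_contra hne
      have hw := mul_mem hz h1
      refine ho.no_comm Nat.prime_three Nat.prime_two (by norm_num) (hord _ hw hne) huo ?_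
      have h3 := hcomm _ hz _ h1
      rw [hui] at h3 ⊢
      calc z * (u * z * u) * u = z * u * z * (u * u) := by group
        _ = z * u * z := by rw [huu, mul_one]
        _ = (u * u) * (z * u * z) := by rw [huu, one_mul]
        _ = u * (u * z * u * z) := by group
        _ = u * (z * (u * z * u)) := by rw [← h3]
    exact (inv_eq_of_mul_eq_one_right h2).symm
  have hPX : (P : Subgroup G) ≤ normalizer (X : Set G) := by
    intro y hy
    rw [mem_normalizer_iff]
    intro z
    constructor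
    · intro hz
      rw [hcomm y hy z (hXP hz)]; simpa using hz
    · intro hz
      have h1 : z ∈ (P : Subgroup G) := by
        have h2 := mul_mem (mul_mem (inv_mem hy) (hXP hz)) hy
        have h3 : y⁻¹ * (y * z * y⁻¹) * y = z := by group
        rwa [h3] at h2
      rw [hcomm y hy z h1] at hz; simpa using hz
  have huX : (u : G) ∈ normalizer (X : Set G) := by
    rw [mem_normalizer_iff]
    intro z
    constructor
    · intro hz
      rw [hinv z (hXP hz)]; exact inv_mem hz
    · intro hz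
      have h1 : z ∈ (P : Subgroup G) := (mem_normalizer_iff.1 huN z).2 (hXP hz)
      rw [hinv z h1] at hz
      exact (inv_mem_iff (x := z)).1 hz
  have e9 : 9 ∣ Nat.card (normalizer (X : Set G)) := by
    rw [← hP]; exact card_dvd_of_le hPX
  have e2 : 2 ∣ Nat.card (normalizer (X : Set G)) := by
    have := orderOf_dvd_card_of_mem huX
    rwa [huo] at this
  omega

/-- the case `|H| = 48` -/
theorem Ord.case48 [Finite G] (ho : Ord G) (hG : Nat.card G = 20160) {H : Subgroup G}
    (hH : FixLE 4 H) (h48 : Nat.card H = 48) : False := by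
  haveI : Fact (Nat.Prime 3) := ⟨Nat.prime_three⟩
  obtain ⟨P⟩ : Nonempty (Sylow 3 H) := inferInstance
  have hP : Nat.card (P : Subgroup H) = 3 := by
    have := sylow_card P (a := 1) (b := 16) (by rw [h48]; norm_num) (by norm_num)
    rwa [pow_one] at this
  obtain ⟨m, c, hm, hN, hc, hcm⟩ := (ho.sub H).sylow P hP
  rw [h48] at hcm
  have hm1 : m = 1 := by
    have h4 : m ≤ 2 := Nat.le_of_dvd (by norm_num) hm
    interval_cases m <;> omega
  subst hm1
  obtain ⟨X, hX⟩ : ∃ X : Subgroup G, X = (P : Subgroup H).map H.subtype := ⟨_, rfl⟩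
  have hXc : Nat.card X = 3 := by
    rw [hX, Subgroup.card_map_of_injective H.subtype_injective, hP]
  have h18 := ho.norm_three hG X hXc
  have hXH : X ≤ H := by rw [hX]; exact Subgroup.map_subtype_le _
  have hX1 : X ≠ ⊥ := by
    intro h
    rw [h, card_bot] at hXc
    omega
  have hrel := hH.relIndex_le hXH hX1 (le_refl (normalizer (X : Set G)))
  have h1 : Nat.card (H.subgroupOf (normalizer (X : Set G))) * H.relIndex (normalizer (X : Set G)) =
      Nat.card (normalizer (X : Set G)) := (H.subgroupOf (normalizer (X : Set G))).card_mul_index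
  have h2 : Nat.card (H.subgroupOf (normalizer (X : Set G))) ≤ 3 := by
    have h3 : Nat.card (normalizer ((P : Subgroup H) : Set H)) = 3 := by rw [hN]
    rw [← h3]
    refine Nat.card_le_card_of_injective
      (fun y => (⟨⟨(y : normalizer (X : Set G)), mem_subgroupOf.1 y.2⟩, ?_⟩ :
        normalizer ((P : Subgroup H) : Set H))) ?_
    · have h4 := (y : normalizer (X : Set G)).2
      rw [← mem_norm_map, ← hX]
      exact h4
    · intro y z hyz
      have h5 := congrArg (fun w : normalizer ((P : Subgroup H) : Set H) => ((w : H) : G)) hyz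
      exact Subtype.ext (Subtype.ext h5)
  have h3 : Nat.card (normalizer (X : Set G)) ≤ 3 * 4 := by
    rw [← h1]
    exact Nat.mul_le_mul h2 hrel
  have h4 : 0 < Nat.card (normalizer (X : Set G)) := Nat.card_pos
  omega

end general

section dat

open Cfsg.Agent.LThreeFour

variable {L : Type*} [Group L] (A : Dat L)

theorem A1_order {t : L} (ht : t ∈ A.A1) (ht1 : t ≠ 1) : orderOf t = 2 :=
  orderOf_eq_prime (by rw [pow_two]; exact Dat.A1_sq ht) ht1

theorem A2_order {t : L} (ht : t ∈ A.A2) (ht1 : t ≠ 1) : orderOf t = 2 :=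
  orderOf_eq_prime (by rw [pow_two]; exact Dat.A2_sq ht) ht1

theorem s_ne : A.x 0 2 1 ≠ 1 := by
  intro h
  rw [← A.el_x02, A.el_eq_one] at h
  exact absurd (congrArg Code.c h) (by decide)

theorem s_order : orderOf (A.x 0 2 1) = 2 :=
  orderOf_eq_prime (by rw [pow_two]; exact A.x_sq 0 2 (by decide) 1) (s_ne A)

theorem invol_iff (t : L) : orderOf t = 2 ↔ ∃ g, g * A.x 0 2 1 * g⁻¹ = t := by
  constructor
  · intro h
    have h1 : t ≠ 1 := by
      rintro rfl
      rw [orderOf_one] at h; omega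
    have h2 : t * t = 1 := by
      have := pow_orderOf_eq_one t
      rwa [h, pow_two] at this
    obtain ⟨g, hg⟩ := A.invol_conj t h1 h2
    exact ⟨g⁻¹, by rw [← hg]; group⟩
  · rintro ⟨g, rfl⟩
    exact ((MulAut.conj g).orderOf_eq (A.x 0 2 1)).trans (s_order A)

theorem cent_s : centralizer ({A.x 0 2 1} : Set L) = A.T := by
  ext l
  rw [mem_centralizer_singleton_iff]
  constructor
  · intro h
    obtain ⟨p, hp⟩ := A.cent l h
    exact ⟨p, hp.symm⟩
  · rintro ⟨p, rfl⟩
    rw [← A.el_x02, A.el_mul, A.el_mul]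
    congr 1
    revert p
    decide +kernel

include A in
theorem card_inv : {t : L | orderOf t = 2}.ncard = 315 := by
  haveI := A.finite
  have h := card_conj (A.x 0 2 1) (fun t => orderOf t = 2) (invol_iff A)
  rw [cent_s, A.card_T, A.card] at h
  omega

theorem num (n f a : ℕ) (hf1 : 1 ≤ f) (hf4 : f ≤ 4) (h16 : 16 ∣ n + 15 * f)
    (hdc : 315 * f = n * a) :
    ¬ 2 ∣ n ∨ n = 2 ∨ n = 4 ∨ n = 18 ∨ n = 20 ∨ n = 36 ∨ n = 180 ∨ n = 84 ∨ (n = 210 ∧ a = 3) ∨
      n = 420 := by
  have h0 : n ∣ 315 * f := ⟨a, hdc⟩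
  interval_cases f
  · left
    intro h
    have := h.trans h0
    omega
  · have h1 : n ∈ Nat.divisors 630 := Nat.mem_divisors.2 ⟨h0, by norm_num⟩
    have h2 : ∀ n ∈ Nat.divisors 630, 16 ∣ n + 15 * 2 → n = 2 ∨ n = 18 ∨ n = 210 := by
      decide +kernel
    rcases h2 n h1 h16 with h | h | h
    · tauto
    · tauto
    · subst h
      have : a = 3 := by omega
      tauto
  · left
    intro h
    have := h.trans h0
    omega
  · have h1 : n ∈ Nat.divisors 1260 := Nat.mem_divisors.2 ⟨h0, by norm_num⟩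
    have h2 : ∀ n ∈ Nat.divisors 1260, 16 ∣ n + 15 * 4 → n = 4 ∨ n = 20 ∨ n = 36 ∨ n = 84 ∨
        n = 180 ∨ n = 420 := by
      decide +kernel
    have h3 := h2 n h1 h16
    clear h1 h2 h0 hdc h16
    omega

theorem isPGroup_T : IsPGroup 2 A.T := by
  have h := A.card_T
  have h2 : Nat.card A.T = 2 ^ 6 := by rw [h]; norm_num
  exact IsPGroup.of_card h2

theorem relIndex_mul_card' {G : Type*} [Group G] {X Y : Subgroup G} (h : X ≤ Y) :
    X.relIndex Y * Nat.card X = Nat.card Y := by
  rw [← Nat.card_congr (Subgroup.subgroupOfEquivOfLe h).toEquiv]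
  exact (X.subgroupOf Y).index_mul_card

theorem A1_ne : A.A1 ≠ ⊥ := by
  intro h
  have := Dat.card_A1 (A := A)
  rw [h, card_bot] at this
  omega

theorem A2_ne : A.A2 ≠ ⊥ := by
  intro h
  have h1 : A.x 0 2 1 ∈ A.A2 := Dat.Z_le_A2 ⟨1, rfl⟩
  rw [h, mem_bot] at h1
  exact s_ne A h1

include A in
/-- odd index -/
theorem odd_index {H : Subgroup L} (hH : FixLE 4 H) (hn : ¬ 2 ∣ H.index) : H = ⊤ := by
  haveI := A.finite
  haveI : Fact (Nat.Prime 2) := ⟨Nat.prime_two⟩
  obtain ⟨x, hx⟩ := (isPGroup_T A).nonempty_fixed_point_of_prime_not_dvd_card (α := L ⧸ H) hn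
  obtain ⟨a, rfl⟩ := QuotientGroup.mk_surjective x
  rw [MulAction.mem_fixedPoints] at hx
  obtain ⟨H', hH'⟩ : ∃ H' : Subgroup L, H' = H.map (MulAut.conj a).toMonoidHom := ⟨_, rfl⟩
  have hT : A.T ≤ H' := by
    intro t ht
    rw [hH', mem_map_conj]
    exact (mk_mem_fixedBy (H := H) t a).1 (hx ⟨t, ht⟩)
  have hF : FixLE 4 H' := hH' ▸ hH.conj a
  have h1 : A.P1 ≤ H' := hF.perfect_le (le_refl 4) (Dat.A1_le_T.trans hT) (A1_ne A)
    Dat.P1_le_normalizer Dat.P1_perfect
  have h2 : A.P2 ≤ H' := hF.perfect_le (le_refl 4) (Dat.A2_le_T.trans hT) (A2_ne A)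
    Dat.P2_le_normalizer Dat.P2_perfect
  have h3 : H' = ⊤ := by
    rw [eq_top_iff, ← Dat.P1_sup_P2 (A := A)]
    exact sup_le h1 h2
  rw [eq_top_iff]
  intro y _
  have h4 : a * y * a⁻¹ ∈ H' := h3 ▸ mem_top _
  rw [hH', mem_map_conj] at h4
  have h5 : a⁻¹ * (a * y * a⁻¹) * a = y := by group
  rwa [h5] at h4

include A in
/-- the case `|H| = 96` with 3 involutions -/
theorem case96 {H : Subgroup L} (h96 : Nat.card H = 96)
    (h3 : {t : L | t ∈ H ∧ orderOf t = 2}.ncard = 3) : False := by
  haveI := A.finite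
  haveI : Fact (Nat.Prime 2) := ⟨Nat.prime_two⟩
  obtain ⟨Q⟩ : Nonempty (Sylow 2 H) := inferInstance
  have hQ : Nat.card (Q : Subgroup H) = 32 := by
    have := sylow_card Q (a := 5) (b := 3) (by rw [h96]; norm_num) (by norm_num)
    rw [this]; norm_num
  obtain ⟨X, hX⟩ : ∃ X : Subgroup L, X = (Q : Subgroup H).map H.subtype := ⟨_, rfl⟩
  have hXc : Nat.card X = 32 := by
    rw [hX, Subgroup.card_map_of_injective H.subtype_injective, hQ]
  have hXp : IsPGroup 2 X := IsPGroup.of_card (n := 5) (by rw [hXc]; norm_num)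
  have hXH : X ≤ H := by rw [hX]; exact Subgroup.map_subtype_le _
  obtain ⟨S, hS⟩ := hXp.exists_le_sylow
  have hTi : ¬ 2 ∣ A.T.index := A.T_index
  obtain ⟨g, hg⟩ := MulAction.exists_smul_eq L S ((isPGroup_T A).toSylow hTi)
  have hgT : ∀ y ∈ X, g * y * g⁻¹ ∈ A.T := by
    intro y hy
    have h1 : g * y * g⁻¹ ∈ ((g • S : Sylow 2 L) : Subgroup L) := by
      rw [Sylow.coe_subgroup_smul]
      exact ⟨y, hS hy, rfl⟩
    rw [hg, IsPGroup.toSylow_coe] at h1
    exact h1
  obtain ⟨Y, hY⟩ : ∃ Y : Subgroup L, Y = X.map (MulAut.conj g).toMonoidHom := ⟨_, rfl⟩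
  have hYc : Nat.card Y = 32 := by
    rw [hY, Subgroup.card_map_of_injective (MulAut.conj g).injective, hXc]
  have hYT : Y ≤ A.T := by
    rw [hY]
    rintro _ ⟨y, hy, rfl⟩
    exact hgT y hy
  have r1 : Y.relIndex A.T = 2 := by
    have h := relIndex_mul_card' hYT
    rw [hYc, A.card_T] at h
    omega
  have r2 : A.A1.relIndex A.T = 4 := by
    have h := relIndex_mul_card' (Dat.A1_le_T (A := A))
    rw [Dat.card_A1, A.card_T] at h
    omega
  have r3 : (Y ⊓ A.A1).relIndex A.T ≤ 8 := by
    refine (relIndex_inf_le (H := Y) (K := A.A1) (L := A.T)).trans ?_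
    rw [r1, r2]
  have r4 : 8 ≤ Nat.card (Y ⊓ A.A1 : Subgroup L) := by
    have h := relIndex_mul_card' ((inf_le_left (a := Y) (b := A.A1)).trans hYT)
    rw [A.card_T] at h
    by_contra hlt
    push Not at hlt
    have : (Y ⊓ A.A1).relIndex A.T * Nat.card (Y ⊓ A.A1 : Subgroup L) ≤ 8 * 7 :=
      Nat.mul_le_mul r3 (by omega)
    omega
  -- the involutions
  have h5 : ((fun y => g⁻¹ * y * g) '' ((↑(Y ⊓ A.A1) : Set L) \ {1})) ⊆
      {t : L | t ∈ H ∧ orderOf t = 2} := by
    rintro _ ⟨y, ⟨hy, hy1⟩, rfl⟩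
    have hy' : y ∈ Y ∧ y ∈ A.A1 := hy
    refine ⟨?_, ?_⟩
    · have h6 := hy'.1
      rw [hY, mem_map_conj] at h6
      exact hXH h6
    · rw [← A1_order A hy'.2 hy1]
      have := (MulAut.conj g⁻¹).orderOf_eq y
      simpa using this
  have h6 := Set.ncard_le_ncard h5 (Set.toFinite _)
  rw [h3, Set.ncard_image_of_injective _ (fun a b hab => mul_left_cancel (mul_right_cancel hab)),
    Set.ncard_sdiff_singleton_of_mem (one_mem _)] at h6
  have h7 : (↑(Y ⊓ A.A1) : Set L).ncard = Nat.card (Y ⊓ A.A1 : Subgroup L) := rfl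
  omega

include A in
/-- **the theorem for a group with coordinates** -/
theorem main (ho : Ord L) {H : Subgroup L} (hH : FixLE 4 H) (h2 : 2 ∣ Nat.card H) : H = ⊤ := by
  haveI := A.finite
  haveI : Fact (Nat.Prime 2) := ⟨Nat.prime_two⟩
  obtain ⟨f, hfdef⟩ : ∃ f, f = (MulAction.fixedBy (L ⧸ H) (A.x 0 2 1)).ncard := ⟨_, rfl⟩
  have hf : ∀ t : L, orderOf t = 2 → (MulAction.fixedBy (L ⧸ H) t).ncard = f := by
    intro t ht
    obtain ⟨g, rfl⟩ := (invol_iff A t).1 ht
    rw [ncard_fixedBy_conj, hfdef]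
  have hf4 : f ≤ 4 := hfdef ▸ hH _ (s_ne A)
  have hf1 : 1 ≤ f := by
    obtain ⟨t, ht⟩ := exists_prime_orderOf_dvd_card' (G := H) 2 h2
    have ht2 : orderOf (t : L) = 2 := by rw [Subgroup.orderOf_coe]; exact ht
    rw [← hf _ ht2, Nat.one_le_iff_ne_zero, Ne, Set.ncard_eq_zero (Set.toFinite _)]
    intro h
    have h1 := (mk_mem_fixedBy (H := H) (t : L) 1).2 (by simp)
    rw [h] at h1
    exact h1
  have h16 : 16 ∣ H.index + 15 * f := by
    have := burnside_const H A.A1 f (fun t ht ht1 => hf t (A1_order A ht ht1))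
    rwa [Dat.card_A1] at this
  obtain ⟨a, ha⟩ : ∃ a, a = {t : L | t ∈ H ∧ orderOf t = 2}.ncard := ⟨_, rfl⟩
  have hdc : 315 * f = H.index * a := by
    rw [ha, ← double_count H f hf, card_inv A]
  have hidx : H.index * Nat.card H = 20160 := by rw [H.index_mul_card, A.card]
  rcases num H.index f a hf1 hf4 h16 hdc with h | h
  · exact odd_index A hH h
  · exfalso
    rcases h with h | h | h | h | h | h | h | ⟨h, h'⟩ | h
    · have hc : Nat.card H = 10080 := by rw [h] at hidx; omega
      obtain ⟨m, c, hm, h8, h9⟩ := ho.seven A.card H (by rw [hc]; norm_num)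
      rw [hc] at h9
      rcases hm with rfl | rfl <;> omega
    · have hc : Nat.card H = 5040 := by rw [h] at hidx; omega
      obtain ⟨m, c, hm, h8, h9⟩ := ho.seven A.card H (by rw [hc]; norm_num)
      rw [hc] at h9
      rcases hm with rfl | rfl <;> omega
    · have hc : Nat.card H = 1120 := by rw [h] at hidx; omega
      obtain ⟨m, c, hm, h8, h9⟩ := ho.seven A.card H (by rw [hc]; norm_num)
      rw [hc] at h9
      rcases hm with rfl | rfl <;> omega
    · have hc : Nat.card H = 1008 := by rw [h] at hidx; omega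
      obtain ⟨m, c, hm, h8, h9⟩ := ho.seven A.card H (by rw [hc]; norm_num)
      rw [hc] at h9
      rcases hm with rfl | rfl <;> omega
    · have hc : Nat.card H = 560 := by rw [h] at hidx; omega
      obtain ⟨m, c, hm, h8, h9⟩ := ho.seven A.card H (by rw [hc]; norm_num)
      rw [hc] at h9
      rcases hm with rfl | rfl <;> omega
    · have hc : Nat.card H = 112 := by rw [h] at hidx; omega
      obtain ⟨m, c, hm, h8, h9⟩ := ho.seven A.card H (by rw [hc]; norm_num)
      rw [hc] at h9
      rcases hm with rfl | rfl <;> omega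
    · have hc : Nat.card H = 240 := by rw [h] at hidx; omega
      obtain ⟨m, c, hm, h8, h9⟩ := ho.five A.card H (by rw [hc]; norm_num)
      rw [hc] at h9
      have hm4 : m ≤ 4 := Nat.le_of_dvd (by norm_num) hm
      interval_cases m <;> omega
    · have hc : Nat.card H = 96 := by rw [h] at hidx; omega
      exact case96 A hc (by rw [← ha, h'])
    · have hc : Nat.card H = 48 := by rw [h] at hidx; omega
      exact ho.case48 A.card hH hc

end dat

/-- element orders of `PSL(3, 4)` -/
theorem ord_psl {F : Type*} [Field F] [Fintype F] (hF : Fintype.card F = 4) :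
    Ord (Matrix.ProjectiveSpecialLinearGroup (Fin 3) F) := by
  haveI : CharP F 2 := by
    obtain ⟨p, hp⟩ := CharP.exists F
    obtain ⟨n, hpp, hn⟩ := FiniteField.card F p
    have h1 : p ∣ 2 ^ 2 := by
      rw [show 2 ^ 2 = 4 by norm_num, ← hF, hn]
      exact dvd_pow_self p n.ne_zero
    have h2 := (Nat.prime_dvd_prime_iff_eq hpp Nat.prime_two).1 (hpp.dvd_of_dvd_pow h1)
    rwa [h2] at hp
  haveI : Fact (Nat.Prime 2) := ⟨Nat.prime_two⟩
  intro g
  have h1 := Cfsg.Agent.S2476.result (F := F) 2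
  have h2 : orderOf g ∈ Set.range (orderOf : Matrix.ProjectiveSpecialLinearGroup (Fin 3) F → ℕ) :=
    ⟨g, rfl⟩
  rw [h1, Set.mem_ofPred_eq, hF] at h2
  obtain ⟨m, hm⟩ : ∃ m, m = orderOf g := ⟨_, rfl⟩
  rw [← hm] at h2 ⊢
  norm_num at h2
  rcases h2 with h | h | h | h | h
  · have := Nat.le_of_dvd (by norm_num) h
    interval_cases m <;> revert h <;> decide
  · have := Nat.le_of_dvd (by norm_num) h
    interval_cases m <;> revert h <;> decide
  · have := Nat.le_of_dvd (by norm_num) h
    interval_cases m <;> revert h <;> decide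
  · have := Nat.le_of_dvd (by norm_num) h
    interval_cases m <;> revert h <;> decide
  · have := Nat.le_of_dvd (by norm_num) h
    interval_cases m <;> revert h <;> decide

/-- **Task 2054.** -/
theorem noEx_psl3_four (F : Type*) [Field F] [Fintype F] (h : Fintype.card F = 4) :
    ∀ H : Subgroup (Matrix.ProjectiveSpecialLinearGroup (Fin 3) F), FixLE 4 H → 2 ∣ Nat.card H →
      ¬ ∃ g : Matrix.ProjectiveSpecialLinearGroup (Fin 3) F, g ≠ 1 ∧
        (MulAction.fixedBy (Matrix.ProjectiveSpecialLinearGroup (Fin 3) F ⧸ H) g).ncard = 4 := by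
  rintro H hH h2 ⟨g, hg, hg4⟩
  obtain ⟨A⟩ := Cfsg.Agent.LThreeFour.exists_dat h (MulEquiv.refl _)
  exact ne_top_of_exact (by norm_num) hg4 (main A (ord_psl h) hH h2)

/-- the corresponding theorem with conclusion `H = ⊤` -/
theorem eq_top {F : Type*} [Field F] [Fintype F] (h : Fintype.card F = 4)
    {H : Subgroup (Matrix.ProjectiveSpecialLinearGroup (Fin 3) F)} (hH : FixLE 4 H)
    (h2 : 2 ∣ Nat.card H) : H = ⊤ := by
  obtain ⟨A⟩ := Cfsg.Agent.LThreeFour.exists_dat h (MulEquiv.refl _)
  exact main A (ord_psl h) hH h2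

end Cfsg.Agent.H949.FxL34
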