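import Cfsg.Agent.H949.SubDeg
import Cfsg.Agent.Characters.Central

/-!
# Constituents of a permutation character: invariance and defect zero (helper949)

* `inv_of_dc` : a constituent of `1_H^S` is invariant under an automorphism which preserves the `H`-double cosets;
* `sum_eq_zero` : a character of `r`-defect zero is no constituent of `1_H^S` if `r` divides `|H ∩ xHx⁻¹|` for all `x`.
-/

set_option autoImplicit false

namespace Cfsg.Agent.H949.SubInv

open Cfsg
open scoped ComplexConjugate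

universe u

variable {S : Type u} [Group S]

/-- generalised orthogonality -/
theorem sum_conj_mul [Fintype S] {χ ψ : S → ℂ} (hχ : IsIrrCharacter S χ) (hψ : IsIrrCharacter S ψ) (h : S) :
    ∑ g : S, conj (χ g) * ψ (h * g) = (Nat.card S : ℂ) * classInner ψ χ * ψ h / ψ 1 := by
  obtain ⟨n, ρ, hρ, rfl⟩ := hψ
  have hcl : IsClassFunction S (fun g => conj (χ g)) := by
    intro g x
    show conj (χ (x * g * x⁻¹)) = conj (χ g)
    rw [Characters.Core.isIrr_isClassFunction hχ g x]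
  have h1 := Characters.Central.sum_classFun_smul ρ hρ hcl
  have hS : (Nat.card S : ℂ) ≠ 0 := by exact_mod_cast Nat.card_pos.ne'
  have h2 : ∑ g : S, conj (χ g) * ρ.character (h * g) =
      LinearMap.trace ℂ (Fin n → ℂ) (ρ h * ∑ g : S, conj (χ g) • ρ g) := by
    rw [Finset.mul_sum, map_sum]
    refine Finset.sum_congr rfl fun g _ => ?_
    rw [mul_smul_comm, map_smul, smul_eq_mul, ← map_mul]
    rfl
  rw [h2, h1, mul_smul_comm, mul_one, map_smul, smul_eq_mul]
  have h3 : ∑ g : S, conj (χ g) * ρ.character g = (Nat.card S : ℂ) * classInner ρ.character χ := by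
    unfold classInner
    rw [mul_inv_cancel_left₀ hS]
    exact Finset.sum_congr rfl fun g _ => mul_comm _ _
  rw [h3, mul_div_right_comm, mul_div_right_comm]
  congr 1
  rw [mul_div_right_comm]

/-- **Constituents of `1_H^S` are invariant under automorphisms preserving the double cosets.** -/
theorem inv_of_dc [Finite S] (H : Subgroup S) [Fintype H] {χ : S → ℂ} (hχ : IsIrrCharacter S χ) (h0 : ∑ h : H, χ h ≠ 0)
    (φ : MulAut S) (hφ : ∀ g, ∃ a ∈ H, ∃ b ∈ H, φ g = a * g * b) (s : S) : χ (φ s) = χ s := by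
  classical
  have : Fintype S := Fintype.ofFinite S
  have hS : (Nat.card S : ℂ) ≠ 0 := by exact_mod_cast Nat.card_pos.ne'
  have hψ : IsIrrCharacter S (fun s => χ (φ s)) := Characters.Core.isIrr_comp φ.toMonoidHom φ.surjective hχ
  by_contra hne
  have hne' : (fun s => χ (φ s)) ≠ χ := fun h => hne (congrFun h s)
  have hφH : ∀ h : S, φ h ∈ H ↔ h ∈ H := by
    intro h
    obtain ⟨a, ha, b, hb, h1⟩ := hφ h
    rw [h1, H.mul_mem_cancel_right hb, H.mul_mem_cancel_left ha]
  let e : H ≃ H := φ.toEquiv.subtypeEquiv fun h => (hφH h).symm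
  have hcl := Characters.Core.isIrr_isClassFunction hχ
  -- biinvariance
  have hQ : ∀ g : S, ∑ h : H, χ (φ (h * g)) = ∑ h : H, χ (h * g) := by
    intro g
    have h1 : ∑ h : H, χ (φ (h * g)) = ∑ h : H, χ (h * φ g) := by
      rw [← Equiv.sum_comp e (fun h : H => χ (h * φ g))]
      refine Finset.sum_congr rfl fun h _ => ?_
      rw [map_mul]
      rfl
    obtain ⟨a, ha, b, hb, h2⟩ := hφ g
    rw [h1, h2]
    have h3 : ∑ h : H, χ (h * (a * g * b)) = ∑ h : H, χ ((b * h * a : S) * g) := by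
      refine Finset.sum_congr rfl fun h _ => ?_
      have h4 := hcl ((h : S) * (a * g * b)) b
      rw [← h4]
      congr 1
      group
    rw [h3]
    exact Equiv.sum_comp ((Equiv.mulLeft (⟨b, hb⟩ : H)).trans (Equiv.mulRight (⟨a, ha⟩ : H))) (fun h : H => χ (h * g))
  have h5 : ∑ g : S, conj (χ g) * ∑ h : H, χ (φ (h * g)) = 0 := by
    have h6 : ∀ g : S, conj (χ g) * ∑ h : H, χ (φ (h * g)) = ∑ h : H, conj (χ g) * χ (φ (h * g)) :=
      fun g => Finset.mul_sum _ _ _
    rw [Finset.sum_congr rfl fun g _ => h6 g, Finset.sum_comm]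
    refine Finset.sum_eq_zero fun h _ => ?_
    have h7 := sum_conj_mul hχ hψ (h : S)
    rw [Characters.Core.classInner_irr_ne hψ hχ hne', mul_zero, zero_mul, zero_div] at h7
    exact h7
  have h8 : ∑ g : S, conj (χ g) * ∑ h : H, χ (h * g) = (Nat.card S : ℂ) / χ 1 * ∑ h : H, χ h := by
    have h6 : ∀ g : S, conj (χ g) * ∑ h : H, χ (h * g) = ∑ h : H, conj (χ g) * χ (h * g) :=
      fun g => Finset.mul_sum _ _ _
    rw [Finset.sum_congr rfl fun g _ => h6 g, Finset.sum_comm, Finset.mul_sum]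
    refine Finset.sum_congr rfl fun h _ => ?_
    rw [sum_conj_mul hχ hχ (h : S), Characters.Core.classInner_irr_self hχ, mul_one, mul_div_right_comm]
  rw [Finset.sum_congr rfl fun g _ => by rw [hQ g], h8] at h5
  rcases mul_eq_zero.1 h5 with h9 | h9
  · exact div_ne_zero hS (Characters.Core.isIrr_apply_one_ne_zero hχ) h9
  · exact h0 h9

/-- `inv_of_dc` up to an inner automorphism. -/
theorem inv_of_dc' [Finite S] (H : Subgroup S) [Fintype H] {χ : S → ℂ} (hχ : IsIrrCharacter S χ) (h0 : ∑ h : H, χ h ≠ 0)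
    (φ : MulAut S) (s₀ : S) (hφ : ∀ g, ∃ a ∈ H, ∃ b ∈ H, s₀ * φ g * s₀⁻¹ = a * g * b) (s : S) : χ (φ s) = χ s := by
  have h1 := inv_of_dc H hχ h0 (MulAut.conj s₀ * φ) (fun g => by
    obtain ⟨a, ha, b, hb, h⟩ := hφ g
    exact ⟨a, ha, b, hb, h⟩) s
  rw [← h1]
  exact (Characters.Core.isIrr_isClassFunction hχ (φ s) s₀).symm

/-! ### divisibility by powers of `r`, localised -/

/-- `v ∈ r^k R`, `R` the algebraic integers localised at `r` -/
def D (r k : ℕ) (v : ℂ) : Prop := ∃ b : ℕ, ¬ r ∣ b ∧ ∃ y : ℂ, IsIntegral ℤ y ∧ (b : ℂ) * v = (r : ℂ) ^ k * y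

theorem isIntegral_nat (n : ℕ) : IsIntegral ℤ (n : ℂ) := by
  simpa using isIntegral_algebraMap (R := ℤ) (A := ℂ) (x := (n : ℤ))

section D

variable {r : ℕ} (hr : r.Prime)

include hr

theorem D_zero (k : ℕ) : D r k 0 := ⟨1, fun h => hr.one_lt.ne' (Nat.dvd_one.1 h), 0, isIntegral_zero, by simp⟩

theorem D_add {k : ℕ} {v w : ℂ} (hv : D r k v) (hw : D r k w) : D r k (v + w) := by
  obtain ⟨b, hb, y, hy, h1⟩ := hv
  obtain ⟨c, hc, z, hz, h2⟩ := hw
  refine ⟨b * c, fun h => (hr.dvd_mul.1 h).elim hb hc, c * y + b * z,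
    ((isIntegral_nat c).mul hy).add ((isIntegral_nat b).mul hz), ?_⟩
  push_cast
  linear_combination (c : ℂ) * h1 + (b : ℂ) * h2

theorem D_sum {k : ℕ} {ι : Type*} (s : Finset ι) (f : ι → ℂ) (h : ∀ i ∈ s, D r k (f i)) : D r k (∑ i ∈ s, f i) := by
  classical
  induction s using Finset.induction_on with
  | empty => rw [Finset.sum_empty]; exact D_zero hr k
  | insert a s ha ih =>
    rw [Finset.sum_insert ha]
    exact D_add hr (h a (Finset.mem_insert_self a s)) (ih fun i hi => h i (Finset.mem_insert_of_mem hi))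

theorem D_mul {k l : ℕ} {v w : ℂ} (hv : D r k v) (hw : D r l w) : D r (k + l) (v * w) := by
  obtain ⟨b, hb, y, hy, h1⟩ := hv
  obtain ⟨c, hc, z, hz, h2⟩ := hw
  refine ⟨b * c, fun h => (hr.dvd_mul.1 h).elim hb hc, y * z, hy.mul hz, ?_⟩
  push_cast
  rw [pow_add]
  linear_combination (c : ℂ) * w * h1 + (r : ℂ) ^ k * y * h2

theorem D_int {y : ℂ} (hy : IsIntegral ℤ y) : D r 0 y :=
  ⟨1, fun h => hr.one_lt.ne' (Nat.dvd_one.1 h), y, hy, by simp⟩

theorem D_nat {n : ℕ} (hn : r ∣ n) : D r 1 (n : ℂ) := by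
  obtain ⟨k, rfl⟩ := hn
  exact ⟨1, fun h => hr.one_lt.ne' (Nat.dvd_one.1 h), k, isIntegral_nat k, by push_cast; ring⟩

/-- a rational number divisible by all powers of `r` is `0` -/
theorem eq_zero_of_D {A N : ℕ} (hN : N ≠ 0) (h : ∀ k, D r (k + 1) ((A : ℂ) / N)) : A = 0 := by
  by_contra hA
  obtain ⟨b, hb, y, hy, h1⟩ := h A
  have hN' : (N : ℂ) ≠ 0 := by exact_mod_cast hN
  have hr' : (r : ℂ) ≠ 0 := by exact_mod_cast hr.ne_zero
  have h2 : y = ((b * A / (r ^ (A + 1) * N) : ℚ) : ℂ) := by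
    push_cast
    field_simp
    field_simp at h1
    linear_combination -h1
  rw [h2] at hy
  have h3 : IsIntegral ℤ ((b * A / (r ^ (A + 1) * N) : ℚ)) := by
    rw [← eq_ratCast (algebraMap ℚ ℂ)] at hy
    exact (isIntegral_algebraMap_iff (algebraMap ℚ ℂ).injective).1 hy
  obtain ⟨n, hn⟩ := IsIntegrallyClosed.isIntegral_iff.1 h3
  have hn' : (n : ℚ) = b * A / (r ^ (A + 1) * N) := by simpa using hn
  have hNq : (N : ℚ) ≠ 0 := by exact_mod_cast hN
  have hrq : (r : ℚ) ≠ 0 := by exact_mod_cast hr.ne_zero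
  have h4 : (n : ℚ) * (r ^ (A + 1) * N) = b * A := by
    rw [hn']
    field_simp
  have h5 : n * ((r : ℤ) ^ (A + 1) * N) = b * A := by exact_mod_cast h4
  have h6 : ((r ^ (A + 1) : ℕ) : ℤ) ∣ ((b * A : ℕ) : ℤ) := by
    refine ⟨n * N, ?_⟩
    push_cast
    rw [← h5]
    ring
  have h7 : r ^ (A + 1) ∣ b * A := Int.natCast_dvd_natCast.1 h6
  have h8 : Nat.Coprime (r ^ (A + 1)) b := Nat.Coprime.pow_left _ ((Nat.Prime.coprime_iff_not_dvd hr).2 hb)
  have h9 := h8.dvd_of_dvd_mul_left h7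
  have h10 := Nat.le_of_dvd (Nat.pos_of_ne_zero hA) h9
  have h11 : A + 1 < r ^ (A + 1) := Nat.lt_pow_self hr.one_lt
  omega

end D

/-- the value of an `r`-defect zero character at an element with centralizer of order divisible by `r` -/
theorem D_value [Finite S] {r : ℕ} (hr : r.Prime) {χ : S → ℂ} (hχ : IsIrrCharacter S χ)
    (hc : D r 0 (χ 1 / Nat.card S)) {y : S} (hy : r ∣ Nat.card (Subgroup.centralizer ({y} : Set S))) : D r 1 (χ y) := by
  have h1 := D_mul hr (D_mul hr hc (D_nat hr hy)) (D_int hr (Blocks.Central.isIntegral_centralChar hχ y))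
  have h2 : χ y = χ 1 / Nat.card S * (Nat.card (Subgroup.centralizer ({y} : Set S)) : ℂ) * centralChar χ y := by
    unfold centralChar
    rw [← Subgroup.card_mul_index (Subgroup.centralizer ({y} : Set S))]
    have h3 : (Nat.card (Subgroup.centralizer ({y} : Set S)) : ℂ) ≠ 0 := by exact_mod_cast Nat.card_pos.ne'
    have h4 : ((Subgroup.centralizer ({y} : Set S)).index : ℂ) ≠ 0 := by exact_mod_cast Subgroup.index_ne_zero_of_finite
    have h5 := Characters.Core.isIrr_apply_one_ne_zero hχ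
    push_cast
    field_simp
  rw [h2]
  exact h1

/-! ### no constituent of `r`-defect zero -/

/-- the conjugation action of `⟨z⟩` on `H x` -/
@[reducible] def cosAct (H : Subgroup S) (x : S) (Γ : Subgroup S) (h1 : Γ ≤ H) (h2 : ∀ u ∈ Γ, x * u * x⁻¹ ∈ H) :
    MulAction Γ H where
  smul u h := ⟨(u : S) * h * (x * (u : S)⁻¹ * x⁻¹),
    H.mul_mem (H.mul_mem (h1 u.2) h.2) (h2 _ (Γ.inv_mem u.2))⟩
  one_smul h := by
    apply Subtype.ext
    show ((1 : Γ) : S) * h * (x * ((1 : Γ) : S)⁻¹ * x⁻¹) = h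
    simp
  mul_smul u v h := by
    apply Subtype.ext
    show ((u * v : Γ) : S) * h * (x * ((u * v : Γ) : S)⁻¹ * x⁻¹) =
      (u : S) * ((v : S) * h * (x * (v : S)⁻¹ * x⁻¹)) * (x * (u : S)⁻¹ * x⁻¹)
    rw [Subgroup.coe_mul]
    group

/-- **A character of `r`-defect zero is no constituent of `1_H^S` if `r` divides all `|H ∩ xHx⁻¹|`.** -/
theorem sum_eq_zero [Finite S] {r : ℕ} (hr : r.Prime) (H : Subgroup S) [Fintype H]
    (hH : ∀ x : S, r ∣ Nat.card ↥(H ⊓ H.map (MulAut.conj x).toMonoidHom)) {χ : S → ℂ} (hχ : IsIrrCharacter S χ)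
    (hd : r ^ (Nat.card S).factorization r ∣ charDegree χ) : ∑ h : H, χ h = 0 := by
  classical
  have : Fintype S := Fintype.ofFinite S
  have : Fintype (S ⧸ H) := Fintype.ofFinite _
  have : Fact r.Prime := ⟨hr⟩
  have hS : (Nat.card S : ℂ) ≠ 0 := by exact_mod_cast Nat.card_pos.ne'
  have hHc : (Nat.card H : ℂ) ≠ 0 := by exact_mod_cast Nat.card_pos.ne'
  have hcl := Characters.Core.isIrr_isClassFunction hχ
  have hχ1 := Characters.Core.isIrr_apply_one_ne_zero hχ
  have hdeg : χ 1 = (charDegree χ : ℂ) := H687.charDegree_eq (Characters.Core.isIrr_isCharacter hχ)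
  obtain ⟨c, hc⟩ : ∃ c : ℂ, c = χ 1 / Nat.card S := ⟨_, rfl⟩
  -- `c` is integral at `r`
  have hc0 : D r 0 c := by
    obtain ⟨k, hk⟩ := hd
    refine ⟨ordCompl[r] (Nat.card S), Nat.not_dvd_ordCompl hr Nat.card_pos.ne', k, isIntegral_nat k, ?_⟩
    have h1 := Nat.ordProj_mul_ordCompl_eq_self (Nat.card S) r
    have h2 : ((r ^ (Nat.card S).factorization r : ℕ) : ℂ) * ((ordCompl[r] (Nat.card S) : ℕ) : ℂ) = Nat.card S := by
      exact_mod_cast h1
    have h3 : χ 1 = ((r ^ (Nat.card S).factorization r : ℕ) : ℂ) * k := by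
      rw [hdeg, hk]
      push_cast
      ring
    have h4 : ((r ^ (Nat.card S).factorization r : ℕ) : ℂ) ≠ 0 := by
      exact_mod_cast pow_ne_zero _ hr.ne_zero
    rw [hc, h3, pow_zero, one_mul, ← h2]
    have h5 : ((ordCompl[r] (Nat.card S) : ℕ) : ℂ) ≠ 0 := by
      exact_mod_cast (Nat.ordCompl_pos r Nat.card_pos.ne').ne'
    field_simp
  obtain ⟨Q, hQ⟩ : ∃ Q : S → ℂ, ∀ x, Q x = c * ∑ h : H, χ (h * x) := ⟨_, fun _ => rfl⟩
  have hleft : ∀ x, ∀ a ∈ H, Q (a * x) = Q x := by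
    intro x a ha
    rw [hQ, hQ]
    congr 1
    rw [← Equiv.sum_comp (Equiv.mulRight (⟨a, ha⟩ : H)) (fun h : H => χ (h * x))]
    refine Finset.sum_congr rfl fun h _ => ?_
    show χ (h * (a * x)) = χ ((h : S) * a * x)
    rw [mul_assoc]
  have hright : ∀ x, ∀ a ∈ H, Q (x * a) = Q x := by
    intro x a ha
    rw [hQ, hQ]
    congr 1
    rw [← Equiv.sum_comp (Equiv.mulLeft (⟨a, ha⟩ : H)) (fun h : H => χ (h * x))]
    refine Finset.sum_congr rfl fun h _ => ?_
    show χ (h * (x * a)) = χ (a * (h : S) * x)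
    rw [← hcl (h * (x * a)) a]
    congr 1
    group
  -- all values are divisible by `r`
  have hD1 : ∀ x, D r 1 (Q x) := by
    intro x
    obtain ⟨z, hz⟩ := exists_prime_orderOf_dvd_card' r (hH x⁻¹)
    have hzo : orderOf (z : S) = r := by rw [Subgroup.orderOf_coe]; exact hz
    have hz1 : (z : S) ∈ H := z.2.1
    have hz2 : x * (z : S) * x⁻¹ ∈ H := by
      obtain ⟨y, hy, h1⟩ := z.2.2
      have h1 : x⁻¹ * y * (x⁻¹)⁻¹ = (z : S) := h1
      rw [← h1]
      have : x * (x⁻¹ * y * x⁻¹⁻¹) * x⁻¹ = y := by group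
      rw [this]
      exact hy
    obtain ⟨Γ, hΓ⟩ : ∃ Γ : Subgroup S, Γ = Subgroup.zpowers (z : S) := ⟨_, rfl⟩
    have h1 : Γ ≤ H := by rw [hΓ]; exact Subgroup.zpowers_le.2 hz1
    have h2 : ∀ u ∈ Γ, x * u * x⁻¹ ∈ H := by
      intro u hu
      rw [hΓ, Subgroup.mem_zpowers_iff] at hu
      obtain ⟨n, rfl⟩ := hu
      rw [← conj_zpow]
      exact H.zpow_mem hz2 n
    have hzΓ : (z : S) ∈ Γ := by rw [hΓ]; exact Subgroup.mem_zpowers _
    have hP : IsPGroup r Γ := by
      refine IsPGroup.of_card (n := 1) ?_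
      rw [hΓ, Nat.card_zpowers, hzo, pow_one]
    let _ := cosAct H x Γ h1 h2
    have hsm : ∀ (u : Γ) (h : H), ((u • h : H) : S) = (u : S) * h * (x * (u : S)⁻¹ * x⁻¹) := fun _ _ => rfl
    obtain ⟨w, hw, hsum⟩ := H687.sum_fixed hP (fun h : H => χ (h * x)) (fun u h => by
      show χ (((u • h : H) : S) * x) = χ (h * x)
      rw [hsm, ← hcl ((h : S) * x) u]
      congr 1
      group) (fun h => Blocks.Central.isIntegral_irr hχ _)
    rw [hQ, hsum]
    have h3 : D r 1 ((r : ℂ) * w) := ⟨1, fun h => hr.one_lt.ne' (Nat.dvd_one.1 h), w, hw, by simp⟩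
    have h4 : D r 1 (∑ h : H, if h ∈ MulAction.fixedPoints Γ H then χ (h * x) else 0) := by
      refine D_sum hr _ _ fun h _ => ?_
      split_ifs with h5
      · refine D_value hr hχ (hc ▸ hc0) ?_
        have h6 : ((⟨(z : S), hzΓ⟩ : Γ) • h : H) = h := h5 ⟨(z : S), hzΓ⟩
        have h7 := congrArg (Subtype.val) h6
        rw [hsm] at h7
        have h8 : (z : S) ∈ Subgroup.centralizer ({(h : S) * x} : Set S) := by
          rw [Subgroup.mem_centralizer_singleton_iff]
          show (z : S) * (h * x) = (h * x) * z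
          have h9 : (z : S) * h * (x * (z : S)⁻¹ * x⁻¹) * (x * z) = h * (x * z) := by rw [h7]
          rw [show (z : S) * h * (x * (z : S)⁻¹ * x⁻¹) * (x * z) = z * (h * x) by group, ← mul_assoc] at h9
          rw [← mul_assoc, h9, mul_assoc]
        have h10 := Subgroup.orderOf_dvd_natCard _ h8
        rwa [hzo] at h10
      · exact D_zero hr 1
    have h5 := D_mul hr hc0 (D_add hr h4 h3)
    rwa [zero_add] at h5
  -- convolution
  have hconv : ∀ x, Q x = ∑ Y : S ⧸ H, Q Y.out * Q (Y.out⁻¹ * x) := by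
    intro x
    have h1 := SubDeg.sum_quot H (fun k => Q k * Q (k⁻¹ * x)) (fun k h hh => by
      rw [hright k h hh, mul_inv_rev, mul_assoc, hleft _ _ (H.inv_mem hh)])
    apply mul_left_cancel₀ hHc
    rw [← h1]
    have h2 : ∀ k : S, Q k * Q (k⁻¹ * x) = c ^ 2 * ∑ h : H, ∑ h' : H, χ (h * k) * χ (h' * (k⁻¹ * x)) := by
      intro k
      rw [hQ, hQ, mul_mul_mul_comm, ← sq, Finset.sum_mul_sum]
    rw [Finset.sum_congr rfl fun k _ => h2 k, ← Finset.mul_sum, Finset.sum_comm]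
    have h3 : ∀ h : H, ∑ k : S, ∑ h' : H, χ (h * k) * χ (h' * (k⁻¹ * x)) =
        (Nat.card S : ℂ) / χ 1 * ∑ h' : H, χ (h' * (h * x)) := by
      intro h
      rw [Finset.sum_comm, Finset.mul_sum]
      refine Finset.sum_congr rfl fun h' _ => ?_
      have h4 := Characters.Central.sum_char_mul_char_inv_mul hχ ((h : S) * x * h')
      rw [← Equiv.sum_comp (Equiv.mulLeft (h : S)) (fun k => χ k * χ (k⁻¹ * ((h : S) * x * h')))] at h4
      have h5 : ∑ k : S, χ (h * k) * χ (h' * (k⁻¹ * x)) =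
          ∑ k : S, χ ((Equiv.mulLeft (h : S)) k) * χ (((Equiv.mulLeft (h : S)) k)⁻¹ * ((h : S) * x * h')) := by
        refine Finset.sum_congr rfl fun k _ => ?_
        show χ (h * k) * χ (h' * (k⁻¹ * x)) = χ ((h : S) * k) * χ (((h : S) * k)⁻¹ * ((h : S) * x * h'))
        congr 1
        have h6 := hcl (((h : S) * k)⁻¹ * ((h : S) * x * h')) h'
        rw [← h6]
        congr 1
        group
      rw [h5, h4, mul_div_right_comm]
      congr 1
      have h6 := hcl ((h : S) * x * h') h'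
      rw [← h6]
      congr 1
      group
    rw [Finset.sum_congr rfl fun h _ => h3 h, ← Finset.mul_sum]
    have h4 : ∀ h : H, ∑ h' : H, χ (h' * (h * x)) = ∑ h' : H, χ (h' * x) := by
      intro h
      rw [← Equiv.sum_comp (Equiv.mulRight h) (fun h' : H => χ (h' * x))]
      refine Finset.sum_congr rfl fun h' _ => ?_
      show χ (h' * (h * x)) = χ ((h' : S) * h * x)
      rw [mul_assoc]
    rw [Finset.sum_congr rfl fun h _ => h4 h, Finset.sum_const, nsmul_eq_mul, Finset.card_univ, ← Nat.card_eq_fintype_card,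
      hQ, hc]
    field_simp
  have hDk : ∀ k : ℕ, ∀ x, D r (k + 1) (Q x) := by
    intro k
    induction k with
    | zero => exact hD1
    | succ k ih =>
      intro x
      rw [hconv x]
      exact D_sum hr _ _ fun Y _ => D_mul hr (ih _) (hD1 _)
  -- the value at `1`
  obtain ⟨m, hm⟩ := SubDeg.sum_eq_nat H (Characters.Core.isIrr_isCharacter hχ)
  have hQ1 : Q 1 = ((charDegree χ * (Nat.card H * m) : ℕ) : ℂ) / (Nat.card S : ℕ) := by
    rw [hQ, hc, hdeg]
    simp only [mul_one]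
    rw [hm]
    push_cast
    ring
  have h0 := eq_zero_of_D hr (A := charDegree χ * (Nat.card H * m)) (N := Nat.card S) Nat.card_pos.ne' (fun k => hQ1 ▸ hDk k 1)
  have hd0 : charDegree χ ≠ 0 := by
    intro h
    rw [h, Nat.cast_zero] at hdeg
    exact hχ1 hdeg
  have h1 : Nat.card H * m = 0 := (Nat.mul_eq_zero.1 h0).resolve_left hd0
  have h2 : ∑ h : H, χ h = ((Nat.card H * m : ℕ) : ℂ) := by rw [hm]; push_cast; ring
  rw [h2, h1, Nat.cast_zero]

end Cfsg.Agent.H949.SubInv
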