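import Cfsg.Agent.H949.GoodPslD

/-!
# S4834, PSL₂(q): characters of `Fˣ` (helper949)
-/

set_option autoImplicit false

open Cfsg
open scoped ComplexConjugate

namespace Cfsg.Agent.H949.GoodPsl

open Cfsg.Agent.Characters.Core Cfsg.Agent.H670.RankOne

universe u v w

variable {F : Type v} [Field F]

theorem ringEquiv_pow [Finite F] (p : ℕ) [hp : Fact p.Prime] [CharP F p] (σ : F ≃+* F) :
    ∃ i : ℕ, ∀ x : F, σ x = x ^ (p ^ i) := by
  let _ : Algebra (ZMod p) F := ZMod.algebra F p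
  let g : F ≃ₐ[ZMod p] F := AlgEquiv.ofRingEquiv (f := σ) (fun a => by
    have : (σ : F →+* F).comp (algebraMap (ZMod p) F) = algebraMap (ZMod p) F := Subsingleton.elim _ _
    exact RingHom.congr_fun this a)
  obtain ⟨n, hn⟩ := (FiniteField.bijective_frobeniusAlgEquivOfAlgebraic_pow (ZMod p) F).2 g
  refine ⟨n.1, fun x => ?_⟩
  have h1 : ∀ (m : ℕ) (x : F), ((FiniteField.frobeniusAlgEquivOfAlgebraic (ZMod p) F) ^ m) x = x ^ (p ^ m) := by
    intro m
    induction m with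
    | zero => intro x; simp
    | succ m ih =>
      intro x
      rw [pow_succ, AlgEquiv.mul_apply, ih]
      show (x ^ (Fintype.card (ZMod p))) ^ p ^ m = _
      rw [ZMod.card, ← pow_mul, pow_succ, mul_comm]
  have h2 : g x = σ x := rfl
  rw [← h2, ← hn]
  exact h1 n.1 x

/-- A faithful character of `Fˣ`. -/
theorem exists_faithful [Finite F] : ∃ χ : Fˣ →* ℂˣ, Function.Injective χ := by
  obtain ⟨g, hg⟩ := IsCyclic.exists_generator (α := Fˣ)
  have hpos : 0 < Nat.card Fˣ := Nat.card_pos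
  have hz : IsPrimitiveRoot (Complex.exp (2 * Real.pi * Complex.I / (Nat.card Fˣ : ℕ))) (Nat.card Fˣ) :=
    Complex.isPrimitiveRoot_exp _ hpos.ne'
  obtain ⟨z, hz'⟩ : ∃ z : ℂˣ, (z : ℂ) = Complex.exp (2 * Real.pi * Complex.I / (Nat.card Fˣ : ℕ)) :=
    hz.isUnit hpos.ne'
  rw [← hz'] at hz
  have hz1 : IsPrimitiveRoot z (Nat.card Fˣ) := IsPrimitiveRoot.coe_units_iff.1 hz
  have hog : orderOf g = Nat.card Fˣ := orderOf_eq_card_of_forall_mem_zpowers hg
  have hoz : orderOf z = Nat.card Fˣ := hz1.eq_orderOf.symm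
  have hd : orderOf z ∣ orderOf g := by rw [hog, hoz]
  refine ⟨monoidHomOfForallMemZpowers hg hd, ?_⟩
  rw [injective_iff_map_eq_one]
  intro x hx
  obtain ⟨k, rfl⟩ := Subgroup.mem_zpowers_iff.1 (hg x)
  rw [map_zpow, monoidHomOfForallMemZpowers_apply_gen] at hx
  rw [← orderOf_dvd_iff_zpow_eq_one, hog, ← hoz, orderOf_dvd_iff_zpow_eq_one]
  exact hx

/-- Characters of order `m`, `p ^ i ≡ ±1 (mod m)` for all `i`, `m` not dividing `4`. -/
theorem exists_chi [Fintype F] (p : ℕ) [hp : Fact p.Prime] [CharP F p] (m : ℕ) (hm : m ∣ Fintype.card F - 1)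
    (h4 : ¬ m ∣ 4) (hi : ∀ i : ℕ, (m : ℤ) ∣ (p : ℤ) ^ i - 1 ∨ (m : ℤ) ∣ (p : ℤ) ^ i + 1) :
    ∃ χ : Fˣ →* ℂˣ, (∃ u, χ u ^ 4 ≠ 1) ∧ ∀ σ : F ≃+* F, (∀ u, χ (Units.map (σ : F →* F) u) = χ u) ∨
      ∀ u, χ (Units.map (σ : F →* F) u) = (χ u)⁻¹ := by
  classical
  obtain ⟨χ₀, hχ₀⟩ := exists_faithful (F := F)
  obtain ⟨k, hk⟩ := hm
  have hcard : Nat.card Fˣ = m * k := by rw [Nat.card_eq_fintype_card, Fintype.card_units, hk]
  have hpow : ∀ u : Fˣ, χ₀ u ^ (m * k) = 1 := by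
    intro u
    rw [← map_pow, ← hcard, pow_card_eq_one', map_one]
  refine ⟨χ₀ ^ k, ?_, ?_⟩
  · obtain ⟨g, hg⟩ := IsCyclic.exists_generator (α := Fˣ)
    have hog : orderOf g = Nat.card Fˣ := orderOf_eq_card_of_forall_mem_zpowers hg
    have hoc : orderOf (χ₀ g) = m * k := by rw [orderOf_injective χ₀ hχ₀, hog, hcard]
    refine ⟨g, fun h => h4 ?_⟩
    rw [MonoidHom.pow_apply, ← pow_mul, ← orderOf_dvd_iff_pow_eq_one, hoc, mul_comm k 4] at h
    have hk0 : 0 < k := by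
      rcases Nat.eq_zero_or_pos k with h0 | h0
      · rw [h0, mul_zero] at hcard
        exact absurd hcard Nat.card_pos.ne'
      · exact h0
    exact Nat.dvd_of_mul_dvd_mul_right hk0 h
  · intro σ
    obtain ⟨i, hσ⟩ := ringEquiv_pow p σ
    have h1 : ∀ u : Fˣ, Units.map (σ : F →* F) u = u ^ (p ^ i) := by
      intro u
      apply Units.ext
      rw [Units.coe_map, Units.val_pow_eq_pow_val]
      exact hσ _
    have h2 : ∀ u : Fˣ, (χ₀ ^ k) (Units.map (σ : F →* F) u) = ((χ₀ u) ^ k) ^ ((p : ℤ) ^ i) := by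
      intro u
      rw [h1, MonoidHom.pow_apply, map_pow, ← pow_mul, mul_comm, pow_mul, ← zpow_natCast (χ₀ u ^ k)]
      push_cast
      rfl
    have h3 : ∀ (u : Fˣ) (c : ℤ), (m : ℤ) ∣ c → ((χ₀ u) ^ k) ^ c = 1 := by
      rintro u _ ⟨c, rfl⟩
      rw [zpow_mul, zpow_natCast, ← pow_mul, mul_comm k m, hpow, one_zpow]
    rcases hi i with h | h
    · left
      intro u
      rw [h2, MonoidHom.pow_apply]
      have := h3 u _ h
      rwa [zpow_sub_one, mul_inv_eq_one] at this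
    · right
      intro u
      rw [h2, MonoidHom.pow_apply]
      have := h3 u _ h
      rw [zpow_add_one] at this
      exact eq_inv_of_mul_eq_one_left this

end Cfsg.Agent.H949.GoodPsl
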