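import Cfsg.Agent.H949.GoodAltF
import Cfsg.Agent.H687.Good
import Cfsg.Agent.HKS.CosetTwo
import Cfsg.Agent.StandardComponent.AltAut

/-!
# S4834: alternating groups of degree at least 7 (helper949)
-/

set_option autoImplicit false

namespace Cfsg.Agent.H949.GoodAlt

open Cfsg Cfsg.Agent.H614 Cfsg.Agent.H687 Equiv

/-- a permutation commuting with the alternating group is trivial -/
theorem eq_one_of_comm {n : ℕ} (hn : 4 ≤ n) {r : Perm (Fin n)} (h : ∀ x : Perm (Fin n), x ∈ alternatingGroup (Fin n) →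
    r * x = x * r) : r = 1 := by
  ext i
  by_contra hne
  have hij : r i ≠ i := fun h1 => hne (by rw [h1]; rfl)
  obtain ⟨k, hk⟩ : ∃ k, k ∉ ({i, r i} : Finset (Fin n)) := by
    by_contra hall
    push Not at hall
    have h2 := Finset.card_le_card (fun k _ => hall k : (Finset.univ : Finset (Fin n)) ⊆ _)
    rw [Finset.card_univ, Fintype.card_fin] at h2
    have h3 := Finset.card_le_two (a := i) (b := r i)
    omega
  obtain ⟨l, hl⟩ : ∃ l, l ∉ ({i, r i, k} : Finset (Fin n)) := by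
    by_contra hall
    push Not at hall
    have h2 := Finset.card_le_card (fun k _ => hall k : (Finset.univ : Finset (Fin n)) ⊆ _)
    rw [Finset.card_univ, Fintype.card_fin] at h2
    have h3 := Finset.card_le_three (a := i) (b := r i) (c := k)
    omega
  simp only [Finset.mem_insert, Finset.mem_singleton, not_or] at hk hl
  have hc : swap (r i) k * swap (r i) l ∈ alternatingGroup (Fin n) := by
    rw [Perm.mem_alternatingGroup, map_mul, Perm.sign_swap (Ne.symm hk.2), Perm.sign_swap (Ne.symm hl.2.1)]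
    rfl
  have h4 := congrArg (fun f : Perm (Fin n) => f i) (h _ hc)
  simp only [Perm.mul_apply] at h4
  rw [swap_apply_of_ne_of_ne (Ne.symm hij) (Ne.symm hl.1), swap_apply_of_ne_of_ne (Ne.symm hij) (Ne.symm hk.1),
    swap_apply_left, swap_apply_of_ne_of_ne hl.2.1 hl.2.2] at h4
  exact hl.2.1 h4.symm

theorem exists_hom {n : ℕ} (hn : 7 ≤ n) : ∃ ψ : MulAut (alternatingGroup (Fin n)) →* Perm (Fin n),
    Function.Surjective ψ ∧ ∀ s : alternatingGroup (Fin n), ψ (MulAut.conj s) = s := by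
  obtain ⟨ψ, hψ⟩ := Cfsg.Agent.StandardComponent.AltAut.exists_autHom n hn
  have key : ∀ (σ : Perm (Fin n)) (e : MulAut (alternatingGroup (Fin n))),
      (∀ x : alternatingGroup (Fin n), ((e x : alternatingGroup (Fin n)) : Perm (Fin n)) = σ * x * σ⁻¹) → ψ e = σ := by
    intro σ e he
    have h1 : σ⁻¹ * ψ e = 1 := by
      apply eq_one_of_comm (by omega)
      intro x hx
      have h2 := he ⟨x, hx⟩
      rw [hψ e ⟨x, hx⟩] at h2
      have h3 : ψ e * x * (ψ e)⁻¹ = σ * x * σ⁻¹ := h2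
      calc σ⁻¹ * ψ e * x = σ⁻¹ * (ψ e * x * (ψ e)⁻¹) * ψ e := by group
        _ = σ⁻¹ * (σ * x * σ⁻¹) * ψ e := by rw [h3]
        _ = x * (σ⁻¹ * ψ e) := by group
    exact (inv_mul_eq_one.1 h1).symm
  refine ⟨ψ, fun σ => ⟨MulAut.conjNormal σ, key _ _ fun x => by simp⟩, fun s => key _ _ fun x => by simp⟩

theorem ty_swap {n : ℕ} {i j : Fin n} (h : i ≠ j) : ty (swap i j) = ((2 :: rp (n - 2) : List ℕ) : Multiset ℕ) := by
  rw [ty_eq, (Perm.isCycle_swap h).cycleType, Perm.card_support_swap h, Fintype.card_fin]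
  simp [rp, ← Multiset.coe_replicate, Multiset.singleton_add]

theorem irr_restrict {n m : ℕ} (hn : 2 ≤ n) {β : Fin m → ℕ} (hβ : StrictMono β)
    (hs : ∑ i, β i = n + ∑ i : Fin m, (i : ℕ)) (ht : F (2 :: rp (n - 2)) β ≠ 0) :
    IsIrrCharacter (alternatingGroup (Fin n)) (fun s => ch (Fin n) β (s : Perm (Fin n))) := by
  have : Nontrivial (Fin n) := Fin.nontrivial_iff_two_le.2 hn
  obtain ⟨i, j, hij⟩ := exists_pair_ne (Fin n)
  refine Cfsg.Agent.HKS.CosetTwo.isIrr_restrict (D := alternatingGroup (Fin n)) ?_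
    (isIrr_ch hβ (by rw [Fintype.card_fin]; exact hs)) (y := swap i j) ?_ ?_
  · exact alternatingGroup.index_eq_two
  · rw [Perm.mem_alternatingGroup, Perm.sign_swap hij]; decide
  · rw [ch_apply, ty_swap hij, FM_coe]
    exact_mod_cast ht

theorem ch_one {n m : ℕ} {β : Fin m → ℕ} {d : ℕ} (h : F (rp n) β = d) :
    ch (Fin n) β ((1 : alternatingGroup (Fin n)) : Perm (Fin n)) = d := by
  rw [OneMemClass.coe_one, ch_apply, ty_one, Fintype.card_fin, ← Multiset.coe_replicate, FM_coe, h]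
  rfl

theorem extends_ {n m : ℕ} (hn : 7 ≤ n) {β : Fin m → ℕ} (hβ : StrictMono β)
    (hs : ∑ i, β i = n + ∑ i : Fin m, (i : ℕ)) :
    ∃ ψ : MulAut (alternatingGroup (Fin n)) → ℂ, IsIrrCharacter (MulAut (alternatingGroup (Fin n))) ψ ∧
      ∀ s, ψ (MulAut.conj s) = ch (Fin n) β (s : Perm (Fin n)) := by
  obtain ⟨f, hf, hfs⟩ := exists_hom hn
  exact ⟨ch (Fin n) β ∘ f, Characters.Core.isIrr_comp f hf (isIrr_ch hβ (by rw [Fintype.card_fin]; exact hs)),
    fun s => by rw [Function.comp_apply, hfs]⟩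

/-- automorphisms of odd prime power order preserve the restrictions of the characters of the symmetric group -/
theorem inv_ {n m : ℕ} (hn : 7 ≤ n) (β : Fin m → ℕ) (φ : MulAut (alternatingGroup (Fin n)))
    (s : alternatingGroup (Fin n)) : ch (Fin n) β ((φ s : alternatingGroup (Fin n)) : Perm (Fin n)) =
      ch (Fin n) β (s : Perm (Fin n)) := by
  obtain ⟨ψ, hψ⟩ := Cfsg.Agent.StandardComponent.AltAut.exists_autHom n hn
  rw [hψ, ch_apply, ch_apply]
  exact isClassFunction_ty (fun t => (FM t β : ℂ)) _ _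

theorem mono2 {a b : ℕ} (h : a < b) : StrictMono ![a, b] := by
  rw [Fin.strictMono_iff_lt_succ]
  intro i
  fin_cases i
  exact h

theorem mono3 {a b c : ℕ} (h : a < b) (h' : b < c) : StrictMono ![a, b, c] := by
  rw [Fin.strictMono_iff_lt_succ]
  intro i
  fin_cases i
  · exact h
  · exact h'

/-- degree data of a strictly increasing tuple -/
structure Dt (n : ℕ) {m : ℕ} (β : Fin m → ℕ) (d : ℕ) : Prop where
  mono : StrictMono β
  sum : ∑ i, β i = n + ∑ i : Fin m, (i : ℕ)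
  swap : F (2 :: rp (n - 2)) β ≠ 0
  deg : F (rp n) β = d

theorem good_of_dt {p n : ℕ} (hn : 7 ≤ n) {m m' : ℕ} {β : Fin m → ℕ} {β' : Fin m' → ℕ} {a b : ℕ} (A : Dt n β a)
    (B : Dt n β' b) (ha : a ≠ 1) (hb : b ≠ 1) (hpa : ¬ p ∣ a) (hpb : ¬ p ∣ b) (hab : ¬ b ∣ a) :
    Good p (alternatingGroup (Fin n)) :=
  good_of (irr_restrict (by omega) A.mono A.sum A.swap) (irr_restrict (by omega) B.mono B.sum B.swap)
    (ch_one A.deg) (ch_one B.deg) ha hb hpa hpb (extends_ hn A.mono A.sum) hab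
    (fun φ _ s => inv_ hn _ φ s)

theorem dt1 (k : ℕ) : Dt (k + 7) ![1, k + 7] (k + 6) where
  mono := mono2 (by omega)
  sum := by simp [Fin.sum_univ_two]; ring
  swap := by
    have h := T1 (k + 5)
    show F (2 :: rp (k + 5)) ![1, k + 5 + 2] ≠ 0
    rw [h]; push_cast; omega
  deg := by rw [A1]; push_cast; ring

theorem dt2 (k : ℕ) : ∃ d : ℕ, 2 * d = (k + 7) * (k + 4) ∧ Dt (k + 7) ![2, k + 6] d := by
  have h := A2 (k + 6)
  have hpos : 0 < F (rp (k + 7)) ![2, k + 6] := by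
    have h1 : (0 : ℤ) < (((k + 6 : ℕ) : ℤ) + 1) * (((k + 6 : ℕ) : ℤ) - 2) := by
      apply mul_pos <;> (push_cast; omega)
    have h2 : (0 : ℤ) < 2 * F (rp (k + 6 + 1)) ![2, k + 6] := h ▸ h1
    have h3 : (0 : ℤ) < F (rp (k + 6 + 1)) ![2, k + 6] := by omega
    exact h3
  refine ⟨(F (rp (k + 7)) ![2, k + 6]).toNat, ?_, ?_⟩
  · have h4 : 2 * F (rp (k + 7)) ![2, k + 6] = ((k : ℤ) + 7) * (k + 4) := by
      have h5 : 2 * F (rp (k + 7)) ![2, k + 6] = (((k + 6 : ℕ) : ℤ) + 1) * (((k + 6 : ℕ) : ℤ) - 2) := h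
      rw [h5]; push_cast; ring
    zify
    rw [Int.toNat_of_nonneg hpos.le, h4]
  · refine ⟨mono2 (by omega), by simp [Fin.sum_univ_two]; ring, ?_, (Int.toNat_of_nonneg hpos.le).symm⟩
    show F (2 :: rp (k + 4 + 1)) ![2, k + 4 + 2] ≠ 0
    have h6 := T2 (k + 4)
    intro h7
    rw [h7] at h6
    push_cast at h6
    nlinarith

theorem dt3 (k : ℕ) : ∃ d : ℕ, 2 * d = (k + 6) * (k + 5) ∧ Dt (k + 7) ![1, 2, k + 7] d := by
  have h := B3 (k + 7)
  have hpos : 0 < F (rp (k + 7)) ![1, 2, k + 7] := by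
    have h1 : (0 : ℤ) < (((k + 7 : ℕ) : ℤ) - 1) * (((k + 7 : ℕ) : ℤ) - 2) := by
      apply mul_pos <;> (push_cast; omega)
    have h2 : (0 : ℤ) < 2 * F (rp (k + 7)) ![1, 2, k + 7] := h ▸ h1
    omega
  refine ⟨(F (rp (k + 7)) ![1, 2, k + 7]).toNat, ?_, ?_⟩
  · have h4 : 2 * F (rp (k + 7)) ![1, 2, k + 7] = ((k : ℤ) + 6) * (k + 5) := by
      rw [h]; push_cast; ring
    zify
    rw [Int.toNat_of_nonneg hpos.le, h4]
  · refine ⟨mono3 (by omega) (by omega), by simp [Fin.sum_univ_three]; ring, ?_, (Int.toNat_of_nonneg hpos.le).symm⟩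
    show F (2 :: rp (k + 5)) ![1, 2, k + 5 + 2] ≠ 0
    have h6 := T3 (k + 5)
    intro h7
    rw [h7] at h6
    push_cast at h6
    nlinarith

theorem dt4 (k : ℕ) : ∃ d : ℕ, 3 * d = (k + 7) * (k + 5) * (k + 3) ∧ Dt (k + 7) ![1, 3, k + 6] d := by
  have h := B4 (k + 6)
  have hpos : 0 < F (rp (k + 7)) ![1, 3, k + 6] := by
    have h1 : (0 : ℤ) < (((k + 6 : ℕ) : ℤ) + 1) * (((k + 6 : ℕ) : ℤ) - 1) * (((k + 6 : ℕ) : ℤ) - 3) := by
      apply mul_pos
      · apply mul_pos <;> (push_cast; omega)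
      · push_cast; omega
    have h2 : (0 : ℤ) < 3 * F (rp (k + 6 + 1)) ![1, 3, k + 6] := h ▸ h1
    have h3 : (0 : ℤ) < F (rp (k + 6 + 1)) ![1, 3, k + 6] := by omega
    exact h3
  refine ⟨(F (rp (k + 7)) ![1, 3, k + 6]).toNat, ?_, ?_⟩
  · have h4 : 3 * F (rp (k + 7)) ![1, 3, k + 6] = ((k : ℤ) + 7) * (k + 5) * (k + 3) := by
      have h5 : 3 * F (rp (k + 7)) ![1, 3, k + 6] =
        (((k + 6 : ℕ) : ℤ) + 1) * (((k + 6 : ℕ) : ℤ) - 1) * (((k + 6 : ℕ) : ℤ) - 3) := h
      rw [h5]; push_cast; ring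
    zify
    rw [Int.toNat_of_nonneg hpos.le, h4]
  · refine ⟨mono3 (by omega) (by omega), by simp [Fin.sum_univ_three]; ring, ?_, (Int.toNat_of_nonneg hpos.le).symm⟩
    show F (2 :: rp (k + 4 + 1)) ![1, 3, k + 4 + 2] ≠ 0
    have h6 := T4 (k + 4)
    intro h7
    rw [h7] at h6
    push_cast at h6
    have h8 : (0 : ℤ) < (k + 4 + 1) * (k + 4 - 1) * (k + 4 - 3) := by
      apply mul_pos
      · apply mul_pos <;> omega
      · omega
    omega

theorem not_dvd_of_dvd {p a b d : ℕ} (_hp : p.Prime) (ha : p ∣ a) (h : b + d = a ∨ a + d = b) (hd : 0 < d)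
    (hdp : d < p) : ¬ p ∣ b := by
  intro hb
  have h1 : p ∣ d := by
    rcases h with h | h
    · exact (Nat.dvd_add_right hb).1 (h ▸ ha)
    · exact (Nat.dvd_add_right ha).1 (h ▸ hb)
  exact absurd (Nat.le_of_dvd hd h1) (by omega)

theorem good_ge_seven {p n : ℕ} (hp : p.Prime) (h3 : 3 < p) (hn : 7 ≤ n) : Good p (alternatingGroup (Fin n)) := by
  obtain ⟨k, rfl⟩ : ∃ k, n = k + 7 := ⟨n - 7, by omega⟩
  obtain ⟨d2, e2, D2⟩ := dt2 k
  obtain ⟨d3, e3, D3⟩ := dt3 k
  obtain ⟨d4, e4, D4⟩ := dt4 k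
  by_cases h1 : p ∣ k + 6
  · -- `(n-2,2)`, `(n-3,2,1)`
    refine good_of_dt hn D2 D4 (by intro h; rw [h] at e2; nlinarith) (by intro h; rw [h] at e4; nlinarith) ?_ ?_ ?_
    · intro h
      rcases (hp.dvd_mul).1 ((h.mul_left 2).trans (dvd_of_eq e2)) with h' | h'
      · exact not_dvd_of_dvd hp h1 (d := 1) (Or.inr rfl) (by omega) (by omega) h'
      · exact not_dvd_of_dvd hp h1 (d := 2) (Or.inl rfl) (by omega) (by omega) h'
    · intro h
      rcases (hp.dvd_mul).1 ((h.mul_left 3).trans (dvd_of_eq e4)) with h' | h'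
      · rcases (hp.dvd_mul).1 h' with h' | h'
        · exact not_dvd_of_dvd hp h1 (d := 1) (Or.inr rfl) (by omega) (by omega) h'
        · exact not_dvd_of_dvd hp h1 (d := 1) (Or.inl rfl) (by omega) (by omega) h'
      · exact not_dvd_of_dvd hp h1 (d := 3) (Or.inl rfl) (by omega) (by omega) h'
    · intro h
      have h5 : 0 < d2 := by nlinarith
      have h6 := Nat.le_of_dvd h5 h
      nlinarith
  · by_cases h2 : p ∣ k + 5
    · -- `(n-1,1)`, `(n-2,2)`
      refine good_of_dt hn (dt1 k) D2 (by omega) (by intro h; rw [h] at e2; nlinarith) h1 ?_ ?_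
      · intro h
        rcases (hp.dvd_mul).1 ((h.mul_left 2).trans (dvd_of_eq e2)) with h' | h'
        · exact not_dvd_of_dvd hp h2 (d := 2) (Or.inr rfl) (by omega) (by omega) h'
        · exact not_dvd_of_dvd hp h2 (d := 1) (Or.inl rfl) (by omega) (by omega) h'
      · intro h
        have h6 := Nat.le_of_dvd (by omega) h
        nlinarith
    · refine good_of_dt hn (dt1 k) D3 (by omega) (by intro h; rw [h] at e3; nlinarith) h1 ?_ ?_
      · intro h
        rcases (hp.dvd_mul).1 ((h.mul_left 2).trans (dvd_of_eq e3)) with h' | h'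
        · exact h1 h'
        · exact h2 h'
      · intro h
        have h6 := Nat.le_of_dvd (by omega) h
        nlinarith

end Cfsg.Agent.H949.GoodAlt
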