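import Cfsg.Agent.H949.GoodPslG

/-!
# S4834 for PSL₂(q) in defining characteristic (helper949)

`good_psl2` : for a finite field `F` of characteristic `p > 3`, `H687.Good p (PSL₂(F))`.
-/

set_option autoImplicit false

open Cfsg

namespace Cfsg.Agent.H949.GoodPsl

open Cfsg.Agent.Characters.Core Cfsg.Agent.H670.RankOne

universe u v w

variable {F : Type v} [Field F]

local notation "PSL₂" => Matrix.ProjectiveSpecialLinearGroup (Fin 2) F

/-- an irreducible character of given degree from a positive count -/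
theorem exists_of_card {S : Type u} [Group S] {d : ℂ} {n : ℕ} (hn : n ≠ 0)
    (h : Nat.card {χ : IrrCharacter S // (χ : S → ℂ) 1 = d} = n) : ∃ β : S → ℂ, IsIrrCharacter S β ∧ β 1 = d := by
  have h1 : Nat.card {χ : IrrCharacter S // (χ : S → ℂ) 1 = d} ≠ 0 := by rw [h]; exact hn
  obtain ⟨⟨χ, hχ⟩⟩ : Nonempty {χ : IrrCharacter S // (χ : S → ℂ) 1 = d} := by
    by_contra hne
    rw [not_nonempty_iff] at hne
    exact h1 Nat.card_of_isEmpty
  exact ⟨χ, χ.2, hχ⟩

section

variable [Fintype F] {p : ℕ} [hp : Fact p.Prime] [CharP F p]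

omit [Fintype F] [CharP F p] in
/-- `beta` of degree `(q ± 1) / 2`. -/
theorem exists_beta_half {d : ℕ} (hp2 : p ≠ 2)
    (h : Nat.card {χ : IrrCharacter PSL₂ // (χ : PSL₂ → ℂ) 1 = (d : ℕ)} = 2) :
    ∃ β : PSL₂ → ℂ, IsIrrCharacter PSL₂ β ∧ β 1 = (d : ℕ) ∧
      ∀ φ : MulAut PSL₂, (∃ k : ℕ, orderOf φ = p ^ k) → ∀ s : PSL₂, β (φ s) = β s := by
  obtain ⟨β, hβ, hd⟩ := exists_of_card two_ne_zero h
  refine ⟨β, hβ, hd, ?_⟩
  rintro φ ⟨k, hk⟩ s
  refine fix_of_two h hβ hd ?_ s
  rw [hk]
  exact (hp.out.odd_of_ne_two hp2).pow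

theorem good_psl2 (h3 : 3 < p) : H687.Good p PSL₂ := by
  classical
  let _ : Fintype PSL₂ := Fintype.ofFinite _
  have := finite_irr (G := PSL₂)
  let _ : Fintype (IrrCharacter PSL₂) := Fintype.ofFinite _
  have hp2 : p ≠ 2 := by omega
  have hchar : ringChar F = p := ringChar.eq F p ▸ rfl
  have hchar2 : ringChar F ≠ 2 := by rw [hchar]; exact hp2
  obtain ⟨f, hpr, hf⟩ := FiniteField.card F p
  obtain ⟨h, hh⟩ : ∃ h, h = Nat.card (dataP F).T := ⟨_, rfl⟩
  have hq : Fintype.card F = 2 * h + 1 := by rw [hh]; exact card_tp hchar2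
  have hf1 : (1 : ℕ) ≤ f := f.pos
  have hpd : p ∣ 2 * h + 1 := by rw [← hq, hf]; exact dvd_pow_self p (by omega)
  have hp5 : 5 ≤ p := by
    by_contra hc
    have : p = 4 := by omega
    rw [this] at hpr
    exact absurd hpr (by decide)
  have hq5 : 5 ≤ 2 * h + 1 := le_trans hp5 (Nat.le_of_dvd (by omega) hpd)
  have hodd : Odd (Fintype.card F) := ⟨h, hq⟩
  -- divisibility facts
  have key : ∀ n : ℕ, p ∣ n → ∀ c : ℕ, (∃ x y : ℕ, x * n + c = y * (2 * h + 1) ∨ x * n = y * (2 * h + 1) + c) →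
      p ∣ c := by
    rintro n hn c ⟨x, y, hxy | hxy⟩
    · exact (Nat.dvd_add_right (Dvd.dvd.mul_left hn x)).1 (hxy ▸ Dvd.dvd.mul_left hpd y)
    · exact (Nat.dvd_add_right (Dvd.dvd.mul_left hpd y)).1 (hxy ▸ Dvd.dvd.mul_left hn x)
  have small : ∀ c : ℕ, 0 < c → c < 5 → ¬ p ∣ c := fun c hc hc5 hd => by
    have := Nat.le_of_dvd hc hd
    omega
  by_cases hcase : p = 5 ∧ Odd (f : ℕ)
  · -- `q = 5 ^ f`, `f` odd
    obtain ⟨rfl, hfo⟩ := hcase
    have hmod : (2 * h + 1) % 8 = 5 := by
      rw [← hq, hf]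
      obtain ⟨k, hk⟩ := hfo
      rw [hk, pow_succ, pow_mul, Nat.mul_mod, Nat.pow_mod]
      norm_num
    have heven : Even (Nat.card (dataP F).T) := by rw [← hh, Nat.even_iff]; omega
    have h2T : 2 ≤ Nat.card (dataP F).T := by rw [← hh]; omega
    obtain ⟨β, hβ, hβd, hβi⟩ := exists_beta_half (F := F) (p := 5) (by norm_num)
      (card_half_even hchar2 heven h2T)
    rw [← hh] at hβd
    have hgal : Odd (Nat.card (F ≃+* F)) := by
      rw [Lib.FieldAutCard.card_ringAut (p := 5) hf1 hf]; exact hfo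
    obtain ⟨α, hα, hαd, hαi⟩ : ∃ α : PSL₂ → ℂ, IsIrrCharacter PSL₂ α ∧ α 1 = ((2 * h : ℕ) : ℂ) ∧
        ∀ (a : MulAut PSL₂) (x : PSL₂), α (a x) = α x := by
      by_cases h5 : h = 2
      · -- `q = 5`
        have hc := card_cusp_even hchar2 heven h2T
        rw [← hh, h5] at hc
        have hc1 : Nat.card {χ : IrrCharacter PSL₂ // (χ : PSL₂ → ℂ) 1 = ((2 * 2 : ℕ) : ℂ)} = 1 := by omega
        obtain ⟨α, hα, hαd⟩ := exists_of_card one_ne_zero hc1
        refine ⟨α, hα, by rw [h5]; exact hαd, fun a x => ?_⟩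
        obtain ⟨hsub, _⟩ := Nat.card_eq_one_iff_unique.1 hc1
        have h6 := hsub.elim ⟨⟨α ∘ a, isIrr_aut hα a⟩, by
          show α (a 1) = _
          rw [map_one, hαd]⟩ ⟨⟨α, hα⟩, hαd⟩
        exact congrArg (fun z : {χ : IrrCharacter PSL₂ // (χ : PSL₂ → ℂ) 1 = ((2 * 2 : ℕ) : ℂ)} =>
          (z.1 : PSL₂ → ℂ) x) h6
      · obtain ⟨m, hm⟩ : ∃ m, h = 2 * m := ⟨h / 2, by omega⟩
        have hmo : Odd m := by rw [Nat.odd_iff]; omega
        obtain ⟨A, B, t, s, r, D⟩ := Ree.PSLTori.exists_data (F := F) m 1 (Or.inl rfl) hmo (by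
          rw [hq, hm]; push_cast; ring)
        have hcA : Nat.card A = 2 * m := D.card_A
        have hcB : Nat.card B = 2 * m + 1 := by exact_mod_cast D.card_B
        have h3B : 3 ∣ Nat.card B := by
          rw [hcB, ← hm]
          have h7 : (2 * h + 1) % 3 = 2 := by
            rw [← hq, hf]
            obtain ⟨k, hk⟩ := hfo
            rw [hk, pow_succ, pow_mul, Nat.mul_mod, Nat.pow_mod]
            norm_num
          omega
        obtain ⟨α, hα, hαd, hαi⟩ := exists_cusp D (by omega) h3B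
        refine ⟨α, hα, ?_, hαi⟩
        rw [hαd, hm]
        congr 1
        ring
    refine H687.good_of hα hβ hαd hβd (by omega) (by omega) ?_ ?_
      (extends_of_cyclic_out H371.OutTwo.conj_injective (out_cyclic hodd hgal) hα hαi) ?_ hβi
    · intro hd
      exact small 1 one_pos (by norm_num) (key _ hd 1 ⟨1, 1, Or.inl (by ring)⟩)
    · intro hd
      exact small 1 one_pos (by norm_num) (key _ hd 1 ⟨2, 1, Or.inr (by ring)⟩)
    · intro hd
      have h8 : h + 1 ∣ 2 := by
        have h9 := Nat.dvd_sub (Dvd.intro_left 2 rfl : h + 1 ∣ 2 * (h + 1)) hd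
        rwa [show 2 * (h + 1) - 2 * h = 2 by omega] at h9
      have := Nat.le_of_dvd (by norm_num) h8
      omega
  · -- principal series
    obtain ⟨χ, hχ4, hχσ⟩ : ∃ χ : Fˣ →* ℂˣ, (∃ u, χ u ^ 4 ≠ 1) ∧
        ∀ σ : F ≃+* F, (∀ u, χ (Units.map (σ : F →* F) u) = χ u) ∨
          ∀ u, χ (Units.map (σ : F →* F) u) = (χ u)⁻¹ := by
      by_cases h7 : 7 ≤ p
      · refine exists_chi p (p - 1) ?_ ?_ ?_
        · rw [hf]
          have := Nat.sub_dvd_pow_sub_pow p 1 (f : ℕ)
          rwa [one_pow] at this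
        · intro hd
          have := Nat.le_of_dvd (by norm_num) hd
          omega
        · intro i
          left
          rw [Nat.cast_sub (by omega), Nat.cast_one]
          have := sub_dvd_pow_sub_pow (p : ℤ) 1 i
          rwa [one_pow] at this
      · have hp5' : p = 5 := by
          have h6 : p ≠ 6 := by
            rintro rfl
            exact absurd hpr (by decide)
          omega
        subst hp5'
        have hfe : Even (f : ℕ) := by
          rw [← Nat.not_odd_iff_even]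
          exact fun ho => hcase ⟨rfl, ho⟩
        refine exists_chi 5 3 ?_ (by decide) ?_
        · rw [hf]
          obtain ⟨k, hk⟩ := hfe
          rw [hk, ← two_mul, pow_mul]
          have h8 := Nat.sub_dvd_pow_sub_pow (5 ^ 2) 1 k
          rw [one_pow] at h8
          exact dvd_trans (by norm_num) h8
        · intro i
          have h8 : ((5 : ℕ) : ℤ) ^ i % 3 = 1 ∨ ((5 : ℕ) : ℤ) ^ i % 3 = 2 := by
            induction i with
            | zero => left; rfl
            | succ i ih =>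
              rw [pow_succ, Int.mul_emod]
              rcases ih with h | h <;> rw [h] <;> norm_num
          push_cast at h8 ⊢
          omega
    obtain ⟨α, hα, hαd, hext⟩ := exists_alpha_principal χ hχ4 hχσ
    rw [hq] at hαd
    have hαp : ¬ p ∣ 2 * h + 1 + 1 := fun hd =>
      small 1 one_pos (by norm_num) (key _ hd 1 ⟨1, 1, Or.inr (by ring)⟩)
    rcases Nat.even_or_odd h with hev | hod
    · -- `q ≡ 1 (mod 4)`: `beta` of degree `q - 1`
      have heven : Even (Nat.card (dataP F).T) := by rw [← hh]; exact hev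
      have h2T : 2 ≤ Nat.card (dataP F).T := by rw [← hh]; omega
      have hc := card_cusp_even hchar2 heven h2T
      rw [← hh] at hc
      obtain ⟨β, hβ, hβd, hβi⟩ := exists_fix_of_not_dvd hpr (d := ((2 * h : ℕ) : ℂ)) (by
        intro hd
        refine small 1 one_pos (by norm_num) (key _ hd 1 ⟨4, 1, Or.inl ?_⟩)
        rw [one_mul]
        omega) (out_comm hodd)
      refine H687.good_of hα hβ hαd hβd (by omega) (by omega) hαp ?_ hext ?_ hβi
      · intro hd
        exact small 1 one_pos (by norm_num) (key _ hd 1 ⟨1, 1, Or.inl (by ring)⟩)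
      · intro hd
        have h8 : 2 * h ∣ 2 := by
          have h9 := Nat.dvd_sub hd (dvd_refl (2 * h))
          rwa [show 2 * h + 1 + 1 - 2 * h = 2 by omega] at h9
        have := Nat.le_of_dvd (by norm_num) h8
        omega
    · -- `q ≡ 3 (mod 4)`: `beta` of degree `(q - 1) / 2`
      have hoddT : Odd (Nat.card (dataP F).T) := by rw [← hh]; exact hod
      have h3T : 3 ≤ Nat.card (dataP F).T := by
        rw [← hh]
        rcases hod with ⟨k, hk⟩
        omega
      obtain ⟨β, hβ, hβd, hβi⟩ := exists_beta_half (F := F) (p := p) hp2 (card_half_odd hchar2 hoddT h3T)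
      rw [← hh] at hβd h3T
      refine H687.good_of hα hβ hαd hβd (by omega) (by omega) hαp ?_ hext ?_ hβi
      · intro hd
        exact small 1 one_pos (by norm_num) (key _ hd 1 ⟨2, 1, Or.inl (by ring)⟩)
      · intro hd
        have h8 : h ∣ 2 := by
          have h9 := Nat.dvd_sub hd (Dvd.intro_left 2 rfl : h ∣ 2 * h)
          rwa [show 2 * h + 1 + 1 - 2 * h = 2 by omega] at h9
        have := Nat.le_of_dvd (by norm_num) h8
        omega

end

end Cfsg.Agent.H949.GoodPsl
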