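import Cfsg.Agent.H614.Chars

/-!
# Values of four families of irreducible characters of the symmetric groups (helper949)

The Frobenius functions for `(n-1,1)`, `(n-2,2)`, `(n-2,1,1)`, `(n-3,2,1)` at the identity and at a transposition.
-/

set_option autoImplicit false

namespace Cfsg.Agent.H949.GoodAlt

open Cfsg.Agent.H614

/-- `F` for two parts -/
theorem F2 (r : ℕ) (ν : List ℕ) (a b : ℕ) :
    F (r :: ν) ![a, b] = (if r ≤ a then F ν ![a - r, b] else 0) + (if r ≤ b then F ν ![a, b - r] else 0) := by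
  have h0 : dn ![a, b] 0 r = ![a - r, b] := by
    funext i; fin_cases i <;> simp [dn]
  have h1 : dn ![a, b] 1 r = ![a, b - r] := by
    funext i; fin_cases i <;> simp [dn]
  rw [F_cons, Fin.sum_univ_two, h0, h1]
  rfl

/-- `F` for three parts -/
theorem F3 (r : ℕ) (ν : List ℕ) (a b c : ℕ) :
    F (r :: ν) ![a, b, c] = (if r ≤ a then F ν ![a - r, b, c] else 0) + (if r ≤ b then F ν ![a, b - r, c] else 0) +
      (if r ≤ c then F ν ![a, b, c - r] else 0) := by
  have h0 : dn ![a, b, c] 0 r = ![a - r, b, c] := by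
    funext i; fin_cases i <;> simp [dn]
  have h1 : dn ![a, b, c] 1 r = ![a, b - r, c] := by
    funext i; fin_cases i <;> simp [dn]
  have h2 : dn ![a, b, c] 2 r = ![a, b, c - r] := by
    funext i; fin_cases i <;> simp [dn]
  rw [F_cons, Fin.sum_univ_three, h0, h1, h2]
  rfl

theorem F3_eq_zero {a c : ℕ} (ν : List ℕ) : F ν ![a, a, c] = 0 :=
  (F_alt ν).eq_zero two_torsion_int (i := 0) (j := 1) (by decide) rfl

abbrev rp (k : ℕ) : List ℕ := List.replicate k 1

theorem rp_succ (k : ℕ) : rp (k + 1) = 1 :: rp k := rfl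

theorem A0 (k : ℕ) : F (rp k) ![0, k + 1] = 1 := by
  induction k with
  | zero => show vac ![0, 1] = 1; decide
  | succ k ih => rw [rp_succ, F2]; simpa using ih

theorem A1 (k : ℕ) : F (rp k) ![1, k] = (k : ℤ) - 1 := by
  induction k with
  | zero => show vac ![1, 0] = _; decide
  | succ k ih =>
    rw [rp_succ, F2, if_pos (le_refl 1), if_pos (by omega), Nat.sub_self, Nat.add_sub_cancel, A0, ih]
    push_cast; ring

theorem A2 (j : ℕ) : 2 * F (rp (j + 1)) ![2, j] = ((j : ℤ) + 1) * (j - 2) := by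
  induction j with
  | zero => rw [rp_succ, F2, if_pos (by omega), if_neg (by omega)]; show 2 * (vac ![1, 0] + 0) = _; decide
  | succ j ih =>
    rw [rp_succ, F2, if_pos (by omega), if_pos (by omega), Nat.add_sub_cancel, mul_add, ih]
    show 2 * F (rp (j + 1)) ![1, j + 1] + _ = _
    rw [A1]
    push_cast; ring

theorem B0 (k : ℕ) : F (rp k) ![0, 1, k + 2] = 1 := by
  induction k with
  | zero => show vac ![0, 1, 2] = 1; decide
  | succ k ih =>
    rw [rp_succ, F3, if_neg (by omega), if_pos (by omega), if_pos (by omega)]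
    show 0 + F (rp k) ![0, 0, k + 1 + 2] + F (rp k) ![0, 1, k + 2] = 1
    rw [F3_eq_zero, ih]; rfl

theorem B0' (k : ℕ) : F (rp k) ![1, 0, k + 2] = -1 := by
  induction k with
  | zero => show vac ![1, 0, 2] = -1; decide
  | succ k ih =>
    rw [rp_succ, F3, if_pos (by omega), if_neg (by omega), if_pos (by omega)]
    show F (rp k) ![0, 0, k + 1 + 2] + 0 + F (rp k) ![1, 0, k + 2] = -1
    rw [F3_eq_zero, ih]; rfl

theorem B1 (k : ℕ) : F (rp k) ![0, 2, k + 1] = (k : ℤ) - 1 := by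
  induction k with
  | zero => show vac ![0, 2, 1] = _; decide
  | succ k ih =>
    rw [rp_succ, F3, if_neg (by omega), if_pos (by omega), if_pos (by omega)]
    show 0 + F (rp k) ![0, 1, k + 2] + F (rp k) ![0, 2, k + 1] = _
    rw [B0, ih]; push_cast; ring

theorem B2 (j : ℕ) : 2 * F (rp (j + 1)) ![0, 3, j + 1] = ((j : ℤ) + 1) * (j - 2) := by
  induction j with
  | zero =>
    rw [rp_succ, F3, if_neg (by omega), if_pos (by omega), if_pos (by omega)]
    show 2 * (0 + vac ![0, 2, 1] + vac ![0, 3, 0]) = _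
    decide
  | succ j ih =>
    rw [rp_succ, F3, if_neg (by omega), if_pos (by omega), if_pos (by omega)]
    show 2 * (0 + F (rp (j + 1)) ![0, 2, j + 1 + 1] + F (rp (j + 1)) ![0, 3, j + 1]) = _
    rw [B1, mul_add, ih]; push_cast; ring

theorem B3 (k : ℕ) : 2 * F (rp k) ![1, 2, k] = ((k : ℤ) - 1) * (k - 2) := by
  induction k with
  | zero => show 2 * vac ![1, 2, 0] = _; decide
  | succ k ih =>
    rw [rp_succ, F3, if_pos (by omega), if_pos (by omega), if_pos (by omega)]
    show 2 * (F (rp k) ![0, 2, k + 1] + F (rp k) ![1, 1, k + 1] + F (rp k) ![1, 2, k]) = _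
    rw [B1, F3_eq_zero, mul_add, ih]; push_cast; ring

theorem B4 (j : ℕ) : 3 * F (rp (j + 1)) ![1, 3, j] = ((j : ℤ) + 1) * (j - 1) * (j - 3) := by
  induction j with
  | zero =>
    rw [rp_succ, F3, if_pos (by omega), if_pos (by omega), if_neg (by omega)]
    show 3 * (vac ![0, 3, 0] + vac ![1, 2, 0] + 0) = _
    decide
  | succ j ih =>
    rw [rp_succ, F3, if_pos (by omega), if_pos (by omega), if_pos (by omega)]
    show 3 * (F (rp (j + 1)) ![0, 3, j + 1] + F (rp (j + 1)) ![1, 2, j + 1] + F (rp (j + 1)) ![1, 3, j]) = _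
    have h1 := B2 j
    have h2 := B3 (j + 1)
    push_cast at h2 ⊢
    nlinarith [h1, h2, ih]

/-! ### A transposition -/

theorem T1 (k : ℕ) : F (2 :: rp k) ![1, k + 2] = (k : ℤ) - 1 := by
  rw [F2, if_neg (by omega), if_pos (by omega)]
  show 0 + F (rp k) ![1, k] = _
  rw [A1, zero_add]

theorem T2 (j : ℕ) : 2 * F (2 :: rp (j + 1)) ![2, j + 2] = 2 + ((j : ℤ) + 1) * (j - 2) := by
  rw [F2, if_pos (by omega), if_pos (by omega)]
  show 2 * (F (rp (j + 1)) ![0, j + 1 + 1] + F (rp (j + 1)) ![2, j]) = _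
  rw [A0, mul_add, A2, mul_one]

theorem T3 (k : ℕ) : 2 * F (2 :: rp k) ![1, 2, k + 2] = -2 + ((k : ℤ) - 1) * (k - 2) := by
  rw [F3, if_neg (by omega), if_pos (by omega), if_pos (by omega)]
  show 2 * (0 + F (rp k) ![1, 0, k + 2] + F (rp k) ![1, 2, k]) = _
  rw [B0', mul_add, B3]; ring

theorem T4 (j : ℕ) : 3 * F (2 :: rp (j + 1)) ![1, 3, j + 2] = ((j : ℤ) + 1) * (j - 1) * (j - 3) := by
  rw [F3, if_neg (by omega), if_pos (by omega), if_pos (by omega)]
  show 3 * (0 + F (rp (j + 1)) ![1, 1, j + 2] + F (rp (j + 1)) ![1, 3, j]) = _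
  rw [F3_eq_zero, mul_add, B4]; ring

end Cfsg.Agent.H949.GoodAlt
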