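import Cfsg.Agent.H670.RankOneSurj

/-!
# S4834, PSL₂(q): rank one data with a torus of index two (helper949)

* `quotData` : quotients of rank one data by a central subgroup of the torus;
* `sum_n_mul_n` : `∑ n_χ(c) n_χ(c') = |T| + #{t | a t * c = c'}`;
* the types and numbers of the irreducible characters when `a` is injective of index two.
-/

set_option autoImplicit false

open Cfsg
open scoped ComplexConjugate

namespace Cfsg.Agent.H949.GoodPsl

open Cfsg.Agent.Characters.Core Cfsg.Agent.H670.RankOne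

universe u v w

section quot

variable {G : Type u} [Group G] {F : Type v} [Field F] {H : Type w} [Group H]

theorem a_eq_one_of_central (D : Data G F) (t : D.T) (ht : ∀ g : G, (t : G) * g = g * t) : D.a t = 1 := by
  have h1 := D.conj_X t 1
  rw [ht, mul_inv_cancel_right] at h1
  have h2 := D.X_inj h1
  rw [mul_one] at h2
  exact Units.ext h2.symm

/-- The projection of the torus to the torus of a quotient. -/
noncomputable def torMap (D : Data G F) (π : G →* H) : D.T →* D.T.map π := π.subgroupMap D.T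

theorem torMap_surj (D : Data G F) (π : G →* H) : Function.Surjective (torMap D π) :=
  π.subgroupMap_surjective D.T

theorem torMap_coe (D : Data G F) (π : G →* H) (t : D.T) : ((torMap D π t : D.T.map π) : H) = π t := rfl

/-- The root of the quotient. -/
noncomputable def aMap (D : Data G F) (π : G →* H) (hc : ∀ z ∈ π.ker, ∀ g : G, z * g = g * z) :
    D.T.map π →* Fˣ :=
  (MonoidHom.liftOfSurjective (torMap D π) (torMap_surj D π)) ⟨D.a, fun t ht => by
    rw [MonoidHom.mem_ker] at ht ⊢
    apply a_eq_one_of_central D t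
    apply hc
    rw [MonoidHom.mem_ker, ← torMap_coe, ht, Subgroup.coe_one]⟩

theorem aMap_apply (D : Data G F) (π : G →* H) (hc : ∀ z ∈ π.ker, ∀ g : G, z * g = g * z) (t : D.T) :
    aMap D π hc (torMap D π t) = D.a t :=
  MonoidHom.liftOfRightInverse_comp_apply _ _ _ _ _

/-- Quotients of rank one data. -/
noncomputable def quotData (D : Data G F) (π : G →* H) (hs : Function.Surjective π)
    (hc : ∀ z ∈ π.ker, ∀ g : G, z * g = g * z) (hT : π.ker ≤ D.T) : Data H F where
  X s := π (D.X s)
  T := D.T.map π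
  w := π D.w
  a := aMap D π hc
  X_add r s := by rw [D.X_add, map_mul]
  X_inj r s h := by
    have h1 : (D.X s)⁻¹ * D.X r ∈ π.ker := by
      rw [MonoidHom.mem_ker, map_mul, map_inv]
      exact inv_mul_eq_one.2 h.symm
    rw [← D.X_neg, ← D.X_add] at h1
    have h2 := D.X_mem_T (hT h1)
    linear_combination h2
  conj_X t s := by
    obtain ⟨t, rfl⟩ := torMap_surj D π t
    rw [aMap_apply, ← D.conj_X, torMap_coe, map_mul, map_mul, map_inv]
  comm_T s t := by
    obtain ⟨s, rfl⟩ := torMap_surj D π s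
    obtain ⟨t, rfl⟩ := torMap_surj D π t
    rw [← map_mul, ← map_mul, D.comm_T]
  w_mem := by
    rintro _ ⟨t, ht, rfl⟩
    exact ⟨D.w * t * D.w⁻¹, D.w_mem t ht, by rw [map_mul, map_mul, map_inv]⟩
  w_sq := ⟨D.w * D.w, D.w_sq, by rw [map_mul]⟩
  bruhat h := by
    obtain ⟨g, rfl⟩ := hs h
    rcases D.bruhat g with ⟨s, t, ht, rfl⟩ | ⟨s, r, t, ht, rfl⟩
    · exact Or.inl ⟨s, π t, ⟨t, ht, rfl⟩, by rw [map_mul]⟩
    · exact Or.inr ⟨s, r, π t, ⟨t, ht, rfl⟩, by rw [map_mul, map_mul, map_mul]⟩
  opp := by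
    rintro r s _ ⟨t, ht, rfl⟩ h
    have h1 : (D.X s * t)⁻¹ * (D.w * D.X r * D.w⁻¹) ∈ π.ker := by
      rw [MonoidHom.mem_ker, map_mul, map_inv, map_mul, map_mul, map_mul, map_inv, h]
      exact inv_mul_cancel _
    apply D.opp r s (t * ((D.X s * t)⁻¹ * (D.w * D.X r * D.w⁻¹))) (D.T.mul_mem ht (hT h1))
    group

section

variable (D : Data G F) (π : G →* H) (hs : Function.Surjective π)
  (hc : ∀ z ∈ π.ker, ∀ g : G, z * g = g * z) (hT : π.ker ≤ D.T)

theorem quotData_X (s : F) : (quotData D π hs hc hT).X s = π (D.X s) := rfl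

theorem quotData_w : (quotData D π hs hc hT).w = π D.w := rfl

theorem quotData_T : (quotData D π hs hc hT).T = D.T.map π := rfl

/-- The projection of the torus. -/
noncomputable def qT : D.T →* (quotData D π hs hc hT).T := torMap D π

theorem qT_coe (t : D.T) : ((qT D π hs hc hT t : (quotData D π hs hc hT).T) : H) = π t := rfl

theorem qT_surj : Function.Surjective (qT D π hs hc hT) := torMap_surj D π

theorem quotData_a (t : D.T) : (quotData D π hs hc hT).a (qT D π hs hc hT t) = D.a t :=
  aMap_apply D π hc t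

theorem quotData_wT (t : D.T) : (quotData D π hs hc hT).wT (qT D π hs hc hT t) =
    qT D π hs hc hT (D.wT t) := by
  apply Subtype.ext
  rw [Data.wT_coe, qT_coe, qT_coe, Data.wT_coe, quotData_w, map_mul, map_mul, map_inv]

theorem hasAnti_quot (hA : HasAnti D) : HasAnti (quotData D π hs hc hT) := by
  obtain ⟨τ, h1, h2, h3, h4⟩ := hA
  have hk : ∀ z ∈ π.ker, τ z = z := fun z hz =>
    h4 ⟨z, hT hz⟩ (a_eq_one_of_central D _ (hc z hz))
  have key : ∀ g g' : G, π g = π g' → π (τ g) = π (τ g') := by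
    intro g g' h
    have h5 : g⁻¹ * g' ∈ π.ker := by
      rw [MonoidHom.mem_ker, map_mul, map_inv]
      exact inv_mul_eq_one.2 h
    have h6 : g' = g * (g⁻¹ * g') := by group
    rw [h6, h1, map_mul, hk _ h5, MonoidHom.mem_ker.1 h5, one_mul]
  obtain ⟨f, hf⟩ : ∃ f : H → G, ∀ h, π (f h) = h := ⟨Function.surjInv hs, Function.surjInv_eq hs⟩
  have hτ : ∀ g : G, π (τ (f (π g))) = π (τ g) := fun g => key _ _ (hf _)
  refine ⟨fun h => π (τ (f h)), ?_, ?_, ?_, ?_⟩
  · intro x y
    obtain ⟨x, rfl⟩ := hs x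
    obtain ⟨y, rfl⟩ := hs y
    show π (τ (f (π x * π y))) = π (τ (f (π y))) * π (τ (f (π x)))
    rw [← map_mul, hτ, hτ, hτ, h1, map_mul]
  · intro s
    show π (τ (f (π (D.X s)))) = π (D.X s)
    rw [hτ, h2]
  · rintro _ ⟨t, ht, rfl⟩
    show π (τ (f (π D.w * π t))) = π D.w * π t
    rw [← map_mul, hτ, h3 t ht]
  · intro t ht
    obtain ⟨t, rfl⟩ := qT_surj D π hs hc hT t
    rw [quotData_a] at ht
    show π (τ (f (π t))) = π t
    rw [hτ, h4 t ht]

end

end quot

section count

variable {G : Type u} [Group G] {F : Type v} [Field F] [Fintype F] (D : Data G F) [Fintype G]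

/-- Fourth identity. -/
theorem sum_n_mul_n [Fintype (IrrCharacter G)] (c c' : F) :
    ∑ χ : IrrCharacter G, D.n χ c * D.n χ c' = Nat.card D.T + Nat.card {t : D.T // (D.a t : F) * c = c'} := by
  classical
  have : Fintype D.T := Fintype.ofFinite _
  have h1 := classInner_eq_sum (D.isClassFunction_gg c) (D.isClassFunction_gg c')
  rw [D.classInner_gg (D.isClassFunction_gg c)] at h1
  have h2 : ∀ (c : F) (χ : IrrCharacter G), classInner (D.gg c) (χ : G → ℂ) = D.n χ c := by
    intro c χ
    rw [← classInner_conj_symm, D.classInner_gg (isIrr_isClassFunction χ.2), D.cf_eq_n, map_natCast]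
  simp only [h2, map_natCast] at h1
  have h3 : D.cf (D.gg c) c' = Nat.card D.T + Nat.card {t : D.T // (D.a t : F) * c = c'} := by
    rw [D.cf_def, four_def]
    simp only [D.gg_X, add_mul, Finset.sum_add_distrib, ite_mul, zero_mul, Finset.sum_ite_eq',
      Finset.mem_univ, if_true, neg_zero, AddChar.map_zero_eq_one, mul_one, mul_add]
    rw [inv_mul_cancel_left₀ (cardF_ne F)]
    congr 1
    simp only [Finset.sum_mul, ← AddChar.map_add_eq_mul]
    rw [Finset.sum_comm]
    have h4 : ∀ t : D.T, ∑ s : F, psi F (s * ((D.a t : F) * c) + -(s * c')) =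
        if (D.a t : F) * c = c' then (Fintype.card F : ℂ) else 0 := by
      intro t
      have h5 : ∀ s : F, s * ((D.a t : F) * c) + -(s * c') = s * ((D.a t : F) * c - c') := by
        intro s; ring
      simp only [h5]
      rw [sum_psi]
      simp only [sub_eq_zero]
    rw [Finset.sum_congr rfl fun t _ => h4 t, Finset.sum_ite, Finset.sum_const_zero, add_zero,
      Finset.sum_const, nsmul_eq_mul, mul_comm _ (Fintype.card F : ℂ),
      inv_mul_cancel_left₀ (cardF_ne F), ← Fintype.card_subtype, ← Nat.card_eq_fintype_card]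
  rw [h3] at h1
  exact_mod_cast h1.symm

end count

end Cfsg.Agent.H949.GoodPsl
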