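import Cfsg.Agent.H949.GoodPslE
import Cfsg.Agent.H687.Good

/-!
# S4834, PSL₂(q): invariance of characters under automorphisms of p-power order (helper949)
-/

set_option autoImplicit false

open Cfsg
open scoped ComplexConjugate Pointwise

namespace Cfsg.Agent.H949.GoodPsl

open Cfsg.Agent.Characters.Core Cfsg.Agent.H670.RankOne

universe u v w

section general

variable {S : Type u} [Group S]

theorem isIrr_aut {β : S → ℂ} (hβ : IsIrrCharacter S β) (φ : MulAut S) : IsIrrCharacter S (β ∘ φ) :=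
  isIrr_comp φ.toMonoidHom φ.surjective hβ

/-- Two irreducible characters of a given degree: automorphisms of odd order fix them. -/
theorem fix_of_two {d : ℂ} (h2 : Nat.card {χ : IrrCharacter S // (χ : S → ℂ) 1 = d} = 2) {β : S → ℂ}
    (hβ : IsIrrCharacter S β) (hd : β 1 = d) {φ : MulAut S} (ho : Odd (orderOf φ)) (s : S) : β (φ s) = β s := by
  classical
  have hfin : Finite {χ : IrrCharacter S // (χ : S → ℂ) 1 = d} := Nat.finite_of_card_ne_zero (by rw [h2]; norm_num)
  -- among three characters two are equal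
  have h3 : ∀ a b c : {χ : IrrCharacter S // (χ : S → ℂ) 1 = d}, a = b ∨ a = c ∨ b = c := by
    intro a b c
    by_contra hc
    push Not at hc
    let _ : Fintype {χ : IrrCharacter S // (χ : S → ℂ) 1 = d} := Fintype.ofFinite _
    have h4 : ({a, b, c} : Finset {χ : IrrCharacter S // (χ : S → ℂ) 1 = d}).card ≤ 2 := by
      rw [← h2, Nat.card_eq_fintype_card]; exact Finset.card_le_univ _
    rw [Finset.card_eq_three.2 ⟨a, b, c, hc.1, hc.2.1, hc.2.2, rfl⟩] at h4
    omega
  have hmk : ∀ n : ℕ, (β ∘ (φ ^ n : MulAut S)) 1 = d := by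
    intro n; rw [Function.comp_apply, map_one, hd]
  let X : ℕ → {χ : IrrCharacter S // (χ : S → ℂ) 1 = d} := fun n =>
    ⟨⟨β ∘ (φ ^ n : MulAut S), isIrr_aut hβ _⟩, hmk n⟩
  have hX : ∀ m n : ℕ, X m = X n ↔ β ∘ (φ ^ m : MulAut S) = β ∘ (φ ^ n : MulAut S) := by
    intro m n
    constructor
    · intro h; exact congrArg (fun x : {χ : IrrCharacter S // (χ : S → ℂ) 1 = d} => ((x.1 : IrrCharacter S) : S → ℂ)) h
    · intro h; exact Subtype.ext (Subtype.ext h)
  have hfinal : β ∘ φ = β → β (φ s) = β s := fun h => congrFun h s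
  apply hfinal
  by_contra hne
  have h01 : ¬ X 0 = X 1 := by
    rw [hX, pow_zero, pow_one]
    exact fun h => hne h.symm
  have h12 : ¬ X 1 = X 2 := by
    rw [hX, pow_one]
    intro h
    apply hne
    funext x
    have h5 := congrFun h (φ⁻¹ x)
    simp only [Function.comp_apply, MulAut.apply_inv_self, pow_two, MulAut.mul_apply] at h5
    exact h5.symm
  have h02 : X 0 = X 2 := by
    rcases h3 (X 0) (X 1) (X 2) with h | h | h
    · exact absurd h h01
    · exact h
    · exact absurd h h12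
  rw [hX, pow_zero] at h02
  have h02' : β ∘ (φ ^ 2 : MulAut S) = β := h02.symm
  have h2k : ∀ k : ℕ, β ∘ ((φ ^ 2) ^ k : MulAut S) = β := by
    intro k
    induction k with
    | zero => rw [pow_zero]; rfl
    | succ k ih =>
      rw [pow_succ]
      funext x
      rw [Function.comp_apply, MulAut.mul_apply]
      have h6 := congrFun ih ((φ ^ 2 : MulAut S) x)
      rw [Function.comp_apply] at h6
      rw [h6]
      exact congrFun h02' x
  obtain ⟨k, hk⟩ := ho
  have h7 := pow_orderOf_eq_one φ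
  rw [hk, pow_add, pow_one, pow_mul] at h7
  apply hne
  funext x
  have h8 := congrFun (h2k k) (φ x)
  rw [Function.comp_apply, ← MulAut.mul_apply, h7] at h8
  exact h8.symm

/-- The action of automorphisms on the irreducible characters of degree `d`. -/
@[reducible] def actAut (d : ℂ) : MulAction (MulAut S) {χ : IrrCharacter S // (χ : S → ℂ) 1 = d} where
  smul φ χ := ⟨⟨(χ.1 : S → ℂ) ∘ (φ⁻¹ : MulAut S), isIrr_aut χ.1.2 _⟩, by
    show (χ.1 : S → ℂ) ((φ⁻¹ : MulAut S) 1) = d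
    rw [map_one, χ.2]⟩
  one_smul χ := by
    apply Subtype.ext
    apply Subtype.ext
    show (χ.1 : S → ℂ) ∘ ((1 : MulAut S)⁻¹ : MulAut S) = (χ.1 : S → ℂ)
    rw [inv_one]
    rfl
  mul_smul φ ψ χ := by
    apply Subtype.ext
    apply Subtype.ext
    show (χ.1 : S → ℂ) ∘ ((φ * ψ)⁻¹ : MulAut S) = ((χ.1 : S → ℂ) ∘ (ψ⁻¹ : MulAut S)) ∘ (φ⁻¹ : MulAut S)
    rw [mul_inv_rev]
    rfl

/-- If `Out S` is commutative and `p` does not divide the number of irreducible characters of degree `d`, some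
irreducible character of degree `d` is invariant under all automorphisms of `p`-power order. -/
theorem exists_fix_of_not_dvd [Finite S] {p : ℕ} (hp : p.Prime) {d : ℂ}
    (hcard : ¬ p ∣ Nat.card {χ : IrrCharacter S // (χ : S → ℂ) 1 = d})
    (hout : ∀ a b : MulAut S, ∃ s : S, a * b = MulAut.conj s * (b * a)) :
    ∃ β : S → ℂ, IsIrrCharacter S β ∧ β 1 = d ∧
      ∀ φ : MulAut S, (∃ k : ℕ, orderOf φ = p ^ k) → ∀ s : S, β (φ s) = β s := by
  classical
  let _ := Fintype.ofFinite S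
  have : Fact p.Prime := ⟨hp⟩
  have hfA : Finite (MulAut S) := Finite.of_injective (fun σ => (σ : S → S)) DFunLike.coe_injective
  have hfirr : Finite (IrrCharacter S) := finite_irr
  have hfin : Finite {χ : IrrCharacter S // (χ : S → ℂ) 1 = d} := Subtype.finite
  let Q : Sylow p (MulAut S) := default
  let _ : MulAction (MulAut S) {χ : IrrCharacter S // (χ : S → ℂ) 1 = d} := actAut d
  obtain ⟨β, hβ⟩ := (Q.isPGroup').nonempty_fixed_point_of_prime_not_dvd_card
    {χ : IrrCharacter S // (χ : S → ℂ) 1 = d} hcard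
  have hQ : ∀ x ∈ Q, ∀ s, (β.1 : S → ℂ) (x s) = (β.1 : S → ℂ) s := by
    intro x hx s
    have h1 : (⟨x⁻¹, Q.inv_mem hx⟩ : Q) • β = β := hβ _
    have h2 := congrArg (fun y : {χ : IrrCharacter S // (χ : S → ℂ) 1 = d} => (y.1 : S → ℂ) s) h1
    have h3 : (β.1 : S → ℂ) (((x⁻¹)⁻¹ : MulAut S) s) = (β.1 : S → ℂ) s := h2
    rwa [inv_inv] at h3
  refine ⟨(β.1 : S → ℂ), β.1.2, β.2, ?_⟩
  rintro φ ⟨k, hk⟩ s
  have hz : IsPGroup p (Subgroup.zpowers φ) := IsPGroup.of_card (n := k) (by rw [Nat.card_zpowers, hk])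
  obtain ⟨Q', hQ'⟩ := hz.exists_le_sylow
  obtain ⟨a, ha⟩ := MulAction.exists_smul_eq (MulAut S) Q Q'
  have h1 : φ ∈ Q' := hQ' (Subgroup.mem_zpowers φ)
  rw [← ha] at h1
  have h2 : a⁻¹ * φ * a ∈ Q := by
    have h3 : φ ∈ (MulAut.conj a • (Q : Subgroup (MulAut S))) := h1
    rw [Subgroup.mem_pointwise_smul_iff_inv_smul_mem, ← map_inv, MulAut.smul_def, MulAut.conj_apply, inv_inv] at h3
    exact h3
  obtain ⟨t, ht⟩ := hout a (a⁻¹ * φ * a)
  have h4 : φ = MulAut.conj t * (a⁻¹ * φ * a) := by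
    have h5 : a * (a⁻¹ * φ * a) * a⁻¹ = φ := by group
    rw [ht] at h5
    calc φ = MulAut.conj t * (a⁻¹ * φ * a * a) * a⁻¹ := h5.symm
      _ = MulAut.conj t * (a⁻¹ * φ * a) := by group
  rw [h4, MulAut.mul_apply, MulAut.conj_apply, isIrr_isClassFunction β.1.2, hQ _ h2]

end general

section out

open Cfsg.Agent.H199.PslAut Matrix

variable {F : Type v} [Field F]

local notation "SL₂" => Matrix.SpecialLinearGroup (Fin 2) F
local notation "PSL₂" => Matrix.ProjectiveSpecialLinearGroup (Fin 2) F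

theorem sq_inner {C : GL (Fin 2) F} {r : Fˣ} (h : Matrix.GeneralLinearGroup.det C = r ^ 2) :
    Psi 2 F C ∈ (MulAut.conj : PSL₂ →* MulAut PSL₂).range := by
  have h1 : Matrix.GeneralLinearGroup.det (scal 2 F r⁻¹ * C) = 1 := by
    rw [map_mul, h]
    have h2 : Matrix.GeneralLinearGroup.det (scal 2 F r⁻¹) = (r ^ 2)⁻¹ := by
      apply Units.ext
      rw [Matrix.GeneralLinearGroup.val_det_apply, coe_scal, Matrix.scalar_apply, Matrix.det_diagonal,
        Finset.prod_const, Finset.card_univ, Fintype.card_fin, ← Units.val_pow_eq_pow_val, inv_pow]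
    rw [h2, inv_mul_cancel]
  have h3 : ((scal 2 F r⁻¹ * C : GL (Fin 2) F) : Matrix (Fin 2) (Fin 2) F).det = 1 := by
    rw [← Matrix.GeneralLinearGroup.val_det_apply, h1, Units.val_one]
  obtain ⟨m, hm⟩ : ∃ m : SL₂, (m : GL (Fin 2) F) = scal 2 F r⁻¹ * C :=
    ⟨⟨((scal 2 F r⁻¹ * C : GL (Fin 2) F) : Matrix (Fin 2) (Fin 2) F), h3⟩, Units.ext rfl⟩
  have h5 := Psi_coe (n := 2) m
  rw [hm, map_mul, Psi_scal, one_mul] at h5
  exact ⟨_, h5.symm⟩

variable [Fintype F] (hodd : Odd (Fintype.card F))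

theorem inn_normal (G : Type*) [Group G] : (MulAut.conj : G →* MulAut G).range.Normal := by
  refine ⟨?_⟩
  rintro _ ⟨s, rfl⟩ a
  refine ⟨a s, ?_⟩
  ext x
  simp [MulAut.conj_apply, MulAut.mul_apply]

include hodd in
theorem pow_sub_one_sq (p : ℕ) [Fact p.Prime] [CharP F p] (i : ℕ) (u : Fˣ) : ∃ r : Fˣ, u ^ (p ^ i) * u⁻¹ = r ^ 2 := by
  have hp : Odd p := by
    obtain ⟨n, hn⟩ := FiniteField.card F p
    rw [hn.2] at hodd
    exact (Nat.odd_pow_iff n.pos.ne').1 hodd
  have h1 : Odd (p ^ i) := hp.pow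
  obtain ⟨k, hk⟩ := h1
  refine ⟨u ^ k, ?_⟩
  rw [hk, pow_succ, mul_inv_cancel_right, ← pow_mul, mul_comm]

include hodd in
/-- `Out (PSL₂(F))` is commutative. -/
theorem out_comm (a b : MulAut PSL₂) : ∃ s : PSL₂, a * b = MulAut.conj s * (b * a) := by
  have hN := inn_normal PSL₂
  have hp : (ringChar F).Prime := CharP.char_is_prime F _
  have : Fact (ringChar F).Prime := ⟨hp⟩
  let π := QuotientGroup.mk' (MulAut.conj : PSL₂ →* MulAut PSL₂).range
  have hπ : ∀ x : MulAut PSL₂, π x = 1 ↔ x ∈ (MulAut.conj : PSL₂ →* MulAut PSL₂).range := by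
    intro x
    rw [← MonoidHom.mem_ker, QuotientGroup.ker_mk']
  have hcm : ∀ x y : MulAut PSL₂, x * y * (y * x)⁻¹ ∈ (MulAut.conj : PSL₂ →* MulAut PSL₂).range →
      Commute (π x) (π y) := by
    intro x y h
    rw [← hπ, map_mul, map_inv, mul_inv_eq_one, map_mul, map_mul] at h
    exact h
  have h1 : ∀ C D : GL (Fin 2) F, Commute (π (Psi 2 F C)) (π (Psi 2 F D)) := by
    intro C D
    apply hcm
    rw [← map_mul, ← map_mul, ← map_inv, ← map_mul]
    apply sq_inner (r := 1)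
    rw [map_mul, map_mul, map_inv, map_mul, mul_comm (Matrix.GeneralLinearGroup.det C), mul_inv_cancel, one_pow]
  have h2 : ∀ (σ : F ≃+* F) (C : GL (Fin 2) F), Commute (π (phi 2 F σ)) (π (Psi 2 F C)) := by
    intro σ C
    obtain ⟨i, hi⟩ := ringEquiv_pow (ringChar F) σ
    obtain ⟨r, hr⟩ := pow_sub_one_sq hodd (ringChar F) i (Matrix.GeneralLinearGroup.det C)
    apply hcm
    rw [phi_mul_Psi, _root_.mul_inv_rev, ← mul_assoc, mul_assoc (Psi 2 F (mapGL σ C)), mul_inv_cancel, mul_one,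
      ← map_inv, ← map_mul]
    apply sq_inner (r := r)
    rw [← hr, map_mul, map_inv]
    congr 1
    apply Units.ext
    rw [Matrix.GeneralLinearGroup.val_det_apply, coe_mapGL, Units.val_pow_eq_pow_val,
      Matrix.GeneralLinearGroup.val_det_apply, ← hi]
    exact (RingHom.map_det (σ : F →+* F) _).symm
  have h3 : ∀ σ τ : F ≃+* F, Commute (π (phi 2 F σ)) (π (phi 2 F τ)) := by
    intro σ τ
    have hc : IsCyclic (F ≃+* F) := LieRecognition.FieldSemilinear.isCyclic_ringAut F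
    have h4 : σ * τ = τ * σ := by
      obtain ⟨g, hg⟩ := hc.exists_generator
      obtain ⟨m, rfl⟩ := Subgroup.mem_zpowers_iff.1 (hg σ)
      obtain ⟨n, rfl⟩ := Subgroup.mem_zpowers_iff.1 (hg τ)
      exact (Commute.zpow_zpow_self g m n).eq
    rw [commute_iff_eq, ← map_mul, ← map_mul, ← map_mul, ← map_mul, h4]
  have h5 : Commute (π a) (π b) := by
    obtain ⟨C, σ, rfl⟩ := exists_form_two a
    obtain ⟨D, τ, rfl⟩ := exists_form_two b
    rw [map_mul, map_mul]
    exact ((h1 C D).mul_right (h2 τ C).symm).mul_left ((h2 σ D).mul_right (h3 σ τ))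
  rw [commute_iff_eq, ← map_mul, ← map_mul, ← mul_inv_eq_one, ← map_inv, ← map_mul, hπ] at h5
  obtain ⟨s, hs⟩ := h5
  exact ⟨s, by rw [hs, inv_mul_cancel_right]⟩

end out

end Cfsg.Agent.H949.GoodPsl
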