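import Cfsg.Agent.H949.GoodPslF
import Cfsg.Agent.Ree.PSLCharD
import Cfsg.Agent.Ree.PSLTori
import Cfsg.Agent.H371.OutPow
import Cfsg.Agent.Lib.FieldAutCard

/-!
# S4834, PSL₂(q): the cuspidal character of order 3 for `q = 5 ^ f`, `f` odd (helper949)
-/

set_option autoImplicit false

open Cfsg
open scoped ComplexConjugate

namespace Cfsg.Agent.H949.GoodPsl

universe u v w

section cusp

open Cfsg.Agent.Characters.Core
open Cfsg.Agent.Classification.BSW.Setup Cfsg.Agent.Classification.BSW.Theta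
open Cfsg.Agent.Classification.BSW.BetaSum Cfsg.Agent.Classification.BSW.SqSum
open Cfsg.Agent.Classification.BSW.Good Cfsg.Agent.Classification.BSW.Order
open Cfsg.Agent.Ree.PSLCharA Cfsg.Agent.Ree.PSLCharDef Cfsg.Agent.Ree.PSLCharB
open Cfsg.Agent.Ree.PSLCharC Cfsg.Agent.Ree.PSLCharD

variable {G : Type*} [Group G] [Fintype G] {A B : Subgroup G} {t s r : G}

/-- A linear character of order 3 of a cyclic group of order divisible by 3. -/
theorem exists_order_three (hc : IsCyclic B) (h3 : 3 ∣ Nat.card B) :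
    ∃ l : B →* ℂˣ, l ≠ 1 ∧ ∀ b, l b ^ 3 = 1 := by
  let _ : CommGroup B := hc.commGroup
  obtain ⟨e⟩ := CommGroup.monoidHom_mulEquiv_of_hasEnoughRootsOfUnity B ℂ
  have : Fact (Nat.Prime 3) := ⟨Nat.prime_three⟩
  obtain ⟨b, hb⟩ := exists_prime_orderOf_dvd_card' (G := B) 3 h3
  have h1 : (e.symm b) ^ 3 = 1 := by
    rw [← map_pow, orderOf_dvd_iff_pow_eq_one.1 hb.dvd, map_one]
  refine ⟨e.symm b, ?_, fun x => ?_⟩
  · intro h
    have h2 : b = 1 := by
      have := congrArg e h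
      rwa [MulEquiv.apply_symm_apply, map_one] at this
    rw [h2, orderOf_one] at hb
    norm_num at hb
  · have := DFunLike.congr_fun h1 x
    rwa [MonoidHom.pow_apply, MonoidHom.one_apply] at this

theorem add_inv_eq {a b : ℂ} (ha : a ≠ 0) (hb : b ≠ 0) (h : a + a⁻¹ = b + b⁻¹) : a = b ∨ a * b = 1 := by
  have h1 : (a - b) * (a * b - 1) = 0 := by
    field_simp at h
    linear_combination h
  rcases mul_eq_zero.1 h1 with h2 | h2
  · exact Or.inl (sub_eq_zero.1 h2)
  · exact Or.inr (sub_eq_zero.1 h2)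

/-- The generator of `B` is mapped to a conjugate of a power by any automorphism. -/
theorem exists_conj_pow {m : ℕ} (D : PSLData A B t s r m 1) (b : B) (hb : ∀ x : B, x ∈ Subgroup.zpowers b)
    (a : MulAut G) :
    ∃ (g : G) (k : ℕ), a (b : G) = g * ((b : G) ^ k) * g⁻¹ ∧ Nat.Coprime k (Nat.card B) := by
  have hob : orderOf (b : G) = Nat.card B := by
    rw [Subgroup.orderOf_coe]; exact orderOf_eq_card_of_forall_mem_zpowers hb
  have hoa : orderOf (a (b : G)) = Nat.card B := by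
    rw [← hob]; exact orderOf_injective a.toMonoidHom a.injective b
  have hcB : Nat.card B = 2 * m + 1 := by exact_mod_cast D.card_B
  have hcA : Nat.card A = 2 * m := D.card_A
  have hm : 0 < m := D.m_odd.pos
  have hne : a (b : G) ≠ 1 := by
    intro h
    rw [h, orderOf_one, hcB] at hoa
    omega
  have hcon : ConjIn B (a (b : G)) := by
    by_contra hB
    by_cases hA : ConjIn A (a (b : G))
    · obtain ⟨g, hg⟩ := hA
      have h1 : orderOf (g * a (b : G) * g⁻¹) ∣ Nat.card A := Subgroup.orderOf_dvd_natCard A hg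
      have h2 : orderOf (g * a (b : G) * g⁻¹) = orderOf (a (b : G)) := by
        have := orderOf_injective (MulAut.conj g).toMonoidHom (MulAut.conj g).injective (a (b : G))
        exact this
      rw [h2, hoa, hcB, hcA] at h1
      have := Nat.le_of_dvd (by omega) h1
      omega
    · have h1 := D.card_cent _ hne hA hB
      have h2 : orderOf (a (b : G)) ∣ Nat.card (Subgroup.centralizer ({a (b : G)} : Set G)) :=
        Subgroup.orderOf_dvd_natCard _ (Subgroup.mem_centralizer_singleton_iff.2 rfl)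
      have h3 : Nat.card (Subgroup.centralizer ({a (b : G)} : Set G)) = 4 * m + 1 := by exact_mod_cast h1
      rw [hoa, hcB, h3] at h2
      have h4 : 2 * m + 1 ∣ 1 := by
        have h5 : 2 * m + 1 ∣ 2 * (2 * m + 1) := Dvd.intro_left _ rfl
        have h6 := Nat.dvd_sub h5 h2
        rwa [show 2 * (2 * m + 1) - (4 * m + 1) = 1 by omega] at h6
      have := Nat.le_of_dvd one_pos h4
      omega
  obtain ⟨g, hg⟩ := hcon
  obtain ⟨k, hk⟩ := (mem_powers_iff_mem_zpowers.2 (hb ⟨_, hg⟩))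
  have hk' : ((b : G) ^ k) = g * a (b : G) * g⁻¹ := by
    have := congrArg Subtype.val hk
    exact this
  refine ⟨g⁻¹, k, by rw [hk']; group, ?_⟩
  have h2 : orderOf (g * a (b : G) * g⁻¹) = orderOf (a (b : G)) :=
    orderOf_injective (MulAut.conj g).toMonoidHom (MulAut.conj g).injective (a (b : G))
  have h3 : orderOf ((b : G) ^ k) = orderOf (b : G) := by rw [hk', h2, hoa, hob]
  have h4 : orderOf ((b : G) ^ k) * Nat.gcd (orderOf (b : G)) k = orderOf (b : G) := by
    rw [orderOf_pow]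
    exact Nat.div_mul_cancel (Nat.gcd_dvd_left _ _)
  rw [h3] at h4
  have h5 : Nat.gcd (orderOf (b : G)) k = 1 := Nat.eq_of_mul_eq_mul_left (orderOf_pos (b : G)) (by rw [h4, mul_one])
  rw [← hob, Nat.coprime_comm]
  exact h5

/-- The cuspidal character of order three is invariant under all automorphisms. -/
theorem exists_cusp {m : ℕ} (D : PSLData A B t s r m 1) (h4 : 4 ≤ Nat.card A) (h3 : 3 ∣ Nat.card B) :
    ∃ α : G → ℂ, IsIrrCharacter G α ∧ α 1 = ((4 * m : ℕ) : ℂ) ∧ ∀ (a : MulAut G) (x : G), α (a x) = α x := by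
  classical
  have := finite_irr (G := G)
  have := Fintype.ofFinite (IrrCharacter G)
  have := finite_hom (comm_sub D.bsw)
  have := Fintype.ofFinite (A →* ℂˣ)
  obtain ⟨δ, φ, χ₁, χ₂, l0, f, T⟩ := exists_tabA D.bsw h4
  obtain rfl := TabA.δ_eq D T
  obtain ⟨g, S⟩ := exists_tabB D T
  obtain ⟨l, hl1, hl3⟩ := exists_order_three D.cyclic_B h3
  refine ⟨g l, (g l).2, ?_, fun a => ?_⟩
  · rw [S.g_deg l hl1, D.card_A]
    push_cast
    ring
  obtain ⟨b, hb⟩ := D.cyclic_B.exists_generator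
  have hcB : Nat.card B = 2 * m + 1 := by exact_mod_cast D.card_B
  have hcA : Nat.card A = 2 * m := D.card_A
  have hb1 : b ≠ 1 := by
    rintro rfl
    apply hl1
    ext x
    obtain ⟨k, rfl⟩ := Subgroup.mem_zpowers_iff.1 (hb x)
    rw [one_zpow, map_one]
    rfl
  obtain ⟨y, k, hk, hcop⟩ := exists_conj_pow D b hb a
  have hirr : IsIrrCharacter G ((g l : G → ℂ) ∘ a) := isIrr_comp a.toMonoidHom a.surjective (g l).2
  have hdeg : ((g l : G → ℂ) ∘ a) 1 = 2 * (Nat.card A : ℂ) := by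
    rw [Function.comp_apply, map_one, S.g_deg l hl1]
  have hA0 : (Nat.card A : ℂ) ≠ 0 := Nat.cast_ne_zero.2 Nat.card_pos.ne'
  -- it is some `g l'`
  obtain ⟨l', hl'1, hl'⟩ : ∃ l' : B →* ℂˣ, l' ≠ 1 ∧ (⟨_, hirr⟩ : IrrCharacter G) = g l' := by
    rcases irr_cases D T S ⟨_, hirr⟩ with h | h | h | h | ⟨l', hl', h⟩ | h
    · exfalso
      have h5 := congrArg (fun χ : IrrCharacter G => (χ : G → ℂ) 1) h
      have h6 : 2 * (Nat.card A : ℂ) = 1 := hdeg.symm.trans h5
      have h7 : 2 * Nat.card A = 1 := by exact_mod_cast h6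
      omega
    · exfalso
      have h5 := congrArg (fun χ : IrrCharacter G => (χ : G → ℂ) 1) h
      have h6 : 2 * (Nat.card A : ℂ) = 2 * (Nat.card A : ℂ) + ((1 : ℤ) : ℂ) := hdeg.symm.trans (h5.trans T.φ_deg)
      push_cast at h6
      have h7 : 2 * Nat.card A = 2 * Nat.card A + 1 := by exact_mod_cast h6
      omega
    · exfalso
      have h5 := congrArg (fun χ : IrrCharacter G => (χ : G → ℂ) 1) h
      have h6 : 2 * (Nat.card A : ℂ) = (Nat.card A : ℂ) + ((1 : ℤ) : ℂ) := hdeg.symm.trans (h5.trans T.χ₁_deg)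
      push_cast at h6
      have h7 : 2 * Nat.card A = Nat.card A + 1 := by exact_mod_cast h6
      omega
    · exfalso
      have h5 := congrArg (fun χ : IrrCharacter G => (χ : G → ℂ) 1) h
      have h6 : 2 * (Nat.card A : ℂ) = (Nat.card A : ℂ) + ((1 : ℤ) : ℂ) := hdeg.symm.trans (h5.trans T.χ₂_deg)
      push_cast at h6
      have h7 : 2 * Nat.card A = Nat.card A + 1 := by exact_mod_cast h6
      omega
    · exfalso
      have h5 := congrArg (fun χ : IrrCharacter G => (χ : G → ℂ) 1) h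
      have h6 : 2 * (Nat.card A : ℂ) = 2 * ((Nat.card A : ℂ) + ((1 : ℤ) : ℂ)) := hdeg.symm.trans (h5.trans (T.f_deg l' hl'))
      push_cast at h6
      have h7 : 2 * Nat.card A = 2 * (Nat.card A + 1) := by exact_mod_cast h6
      omega
    · exact h
  -- compare the values at the generator
  have hv1 : (g l' : G → ℂ) b = -((1 : ℤ) : ℂ) * ((l' b : ℂ) + (((l' b)⁻¹ : ℂˣ) : ℂ)) := S.g_B l' hl'1 b hb1
  have hbk : b ^ k ≠ 1 := by
    intro h
    have h5 : orderOf b = Nat.card B := orderOf_eq_card_of_forall_mem_zpowers hb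
    have h6 := orderOf_dvd_iff_pow_eq_one.2 h
    rw [h5] at h6
    have h7 := Nat.Coprime.eq_one_of_dvd hcop.symm h6
    have hm := D.m_odd.pos
    omega
  have hv2 : (g l : G → ℂ) ((b ^ k : B) : G) =
      -((1 : ℤ) : ℂ) * ((l (b ^ k) : ℂ) + (((l (b ^ k))⁻¹ : ℂˣ) : ℂ)) := S.g_B l hl1 _ hbk
  have hv3 : (g l' : G → ℂ) b = (g l : G → ℂ) ((b ^ k : B) : G) := by
    have h5 : (g l' : G → ℂ) b = (g l : G → ℂ) (a b) := by
      rw [← hl']; rfl
    rw [h5, hk, isIrr_isClassFunction (g l).2, Subgroup.coe_pow]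
  have hlk : (l (b ^ k) : ℂ) + (((l (b ^ k))⁻¹ : ℂˣ) : ℂ) = (l b : ℂ) + (((l b)⁻¹ : ℂˣ) : ℂ) := by
    have h5 : ¬ 3 ∣ k := by
      intro h6
      have h8 := Nat.dvd_gcd h6 h3
      rw [Nat.Coprime.gcd_eq_one hcop] at h8
      have := Nat.le_of_dvd one_pos h8
      omega
    have h9 : ∀ j : ℕ, l b ^ (3 * j) = 1 := by
      intro j
      rw [pow_mul, hl3, one_pow]
    have h10 : ∀ x : ℂˣ, x ^ 3 = 1 → x ^ 2 = x⁻¹ := by
      intro x hx
      rw [eq_inv_iff_mul_eq_one, ← pow_succ, hx]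
    have h11 : k % 3 = 1 ∨ k % 3 = 2 := by omega
    rw [map_pow, ← Nat.div_add_mod k 3, pow_add, h9, one_mul]
    rcases h11 with h12 | h12 <;> rw [h12]
    · rw [pow_one]
    · rw [h10 _ (hl3 b), inv_inv, add_comm]
  rw [hv1, hv2, hlk] at hv3
  have hv4 : (l' b : ℂ) + (l' b : ℂ)⁻¹ = (l b : ℂ) + (l b : ℂ)⁻¹ := by
    rw [← Units.val_inv_eq_inv_val, ← Units.val_inv_eq_inv_val]
    have : (-((1 : ℤ) : ℂ)) ≠ 0 := by norm_num
    exact mul_left_cancel₀ this hv3
  have hg : g l' = g l := by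
    rw [S.g_inj l' l hl'1 hl1]
    rcases add_inv_eq (Units.ne_zero _) (Units.ne_zero _) hv4 with h | h
    · left
      ext x
      obtain ⟨j, rfl⟩ := Subgroup.mem_zpowers_iff.1 (hb x)
      rw [map_zpow, map_zpow, Units.ext h]
    · right
      ext x
      obtain ⟨j, rfl⟩ := Subgroup.mem_zpowers_iff.1 (hb x)
      have h5 : l' b * l b = 1 := Units.ext (by rw [Units.val_mul, h, Units.val_one])
      rw [MonoidHom.mul_apply, map_zpow, map_zpow, ← mul_zpow, h5, one_zpow]
      rfl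
  intro x
  have h5 : (g l : G → ℂ) (a x) = ((⟨_, hirr⟩ : IrrCharacter G) : G → ℂ) x := rfl
  rw [h5, hl', hg]

end cusp

/-- Extension when `Out` is cyclic. -/
theorem extends_of_cyclic_out {S : Type u} [Group S] [Finite S]
    (hinj : Function.Injective (MulAut.conj : S →* MulAut S))
    (hcyc : ∀ [(MulAut.conj : S →* MulAut S).range.Normal], IsCyclic (MulAut S ⧸ (MulAut.conj : S →* MulAut S).range))
    {α : S → ℂ} (hα : IsIrrCharacter S α) (hinv : ∀ (a : MulAut S) (x : S), α (a x) = α x) :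
    ∃ ψ : MulAut S → ℂ, IsIrrCharacter (MulAut S) ψ ∧ ∀ s, ψ (MulAut.conj s) = α s := by
  have hN := inn_normal S
  have : Finite (MulAut S) := Finite.of_injective (fun σ => (σ : S → S)) DFunLike.coe_injective
  let e : S ≃* (MulAut.conj : S →* MulAut S).range := MonoidHom.ofInjective hinj
  have he : ∀ s, ((e s : (MulAut.conj : S →* MulAut S).range) : MulAut S) = MulAut.conj s := fun s => rfl
  obtain ⟨ψ, hψ, hψ2⟩ := S0886.result (MulAut.conj : S →* MulAut S).range hcyc (α ∘ e.symm)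
    (Characters.Core.isIrr_comp e.symm.toMonoidHom e.symm.surjective hα) (by
      intro g n
      obtain ⟨s, rfl⟩ := e.surjective n
      have h1 : (⟨g * (e s : (MulAut.conj : S →* MulAut S).range) * g⁻¹, hN.conj_mem _ (e s).2 g⟩ :
          (MulAut.conj : S →* MulAut S).range) = e (g s) := by
        apply Subtype.ext
        show g * MulAut.conj s * g⁻¹ = MulAut.conj (g s)
        ext x
        simp [MulAut.conj_apply, MulAut.mul_apply]
      rw [h1, Function.comp_apply, Function.comp_apply, MulEquiv.symm_apply_apply, MulEquiv.symm_apply_apply, hinv])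
  refine ⟨ψ, hψ, fun s => ?_⟩
  have h2 := hψ2 (e s)
  rw [he, Function.comp_apply, MulEquiv.symm_apply_apply] at h2
  exact h2

section outcyc

open Cfsg.Agent.H199.PslAut Matrix

variable {F : Type v} [Field F] [Fintype F]

local notation "SL₂" => Matrix.SpecialLinearGroup (Fin 2) F
local notation "PSL₂" => Matrix.ProjectiveSpecialLinearGroup (Fin 2) F

/-- The product of two non-squares is a square. -/
theorem exists_det_rep (hodd : Odd (Fintype.card F)) : ∃ d : Fˣ, ∀ c : Fˣ, (∃ r : Fˣ, c = r ^ 2) ∨ ∃ r : Fˣ, d * c = r ^ 2 := by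
  classical
  have h2 : ringChar F ≠ 2 := by
    intro h
    have := FiniteField.even_card_of_char_two h
    rw [Nat.odd_iff] at hodd
    omega
  obtain ⟨d, hd⟩ := FiniteField.exists_nonsquare h2
  have hd0 : d ≠ 0 := by rintro rfl; exact hd IsSquare.zero
  refine ⟨Units.mk0 d hd0, fun c => ?_⟩
  by_cases hc : IsSquare (c : F)
  · left
    obtain ⟨r, hr⟩ := hc
    have hr0 : r ≠ 0 := by rintro rfl; exact c.ne_zero (by rw [hr, mul_zero])
    exact ⟨Units.mk0 r hr0, Units.ext (by rw [Units.val_pow_eq_pow_val, Units.val_mk0, hr, pow_two])⟩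
  · right
    have h3 : IsSquare (d * (c : F)) := by
      rw [← quadraticChar_one_iff_isSquare (mul_ne_zero hd0 c.ne_zero), map_mul,
        quadraticChar_neg_one_iff_not_isSquare.2 hd, quadraticChar_neg_one_iff_not_isSquare.2 hc]
      norm_num
    obtain ⟨r, hr⟩ := h3
    have hr0 : r ≠ 0 := by rintro rfl; exact mul_ne_zero hd0 c.ne_zero (by rw [hr, mul_zero])
    refine ⟨Units.mk0 r hr0, Units.ext ?_⟩
    rw [Units.val_pow_eq_pow_val, Units.val_mk0, Units.val_mul, Units.val_mk0, hr, pow_two]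

omit [Fintype F] in
theorem exists_det_eq (d : Fˣ) : ∃ D : GL (Fin 2) F, Matrix.GeneralLinearGroup.det D = d := by
  refine ⟨H670.GL2.tor (d, 1), Units.ext ?_⟩
  rw [Matrix.GeneralLinearGroup.val_det_apply, Matrix.det_fin_two]
  show (d : F) * 1 - 0 * 0 = d
  ring

/-- `Out (PSL₂(F))` is cyclic when `F` has odd degree over the prime field. -/
theorem out_cyclic (hodd : Odd (Fintype.card F)) (hgal : Odd (Nat.card (F ≃+* F)))
    [hN : (MulAut.conj : PSL₂ →* MulAut PSL₂).range.Normal] :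
    IsCyclic (MulAut PSL₂ ⧸ (MulAut.conj : PSL₂ →* MulAut PSL₂).range) := by
  have hcyc : IsCyclic (F ≃+* F) := LieRecognition.FieldSemilinear.isCyclic_ringAut F
  obtain ⟨σ0, hσ0⟩ := hcyc.exists_generator
  obtain ⟨d, hd⟩ := exists_det_rep hodd
  obtain ⟨D, hD⟩ := exists_det_eq d
  let π := QuotientGroup.mk' (MulAut.conj : PSL₂ →* MulAut PSL₂).range
  have hπ : ∀ x : MulAut PSL₂, π x = 1 ↔ x ∈ (MulAut.conj : PSL₂ →* MulAut PSL₂).range := by
    intro x
    rw [← MonoidHom.mem_ker, QuotientGroup.ker_mk']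
  have hcm : ∀ a b : MulAut PSL₂, π a * π b = π b * π a := by
    intro a b
    obtain ⟨s, hs⟩ := out_comm hodd a b
    have h1 : π (MulAut.conj s) = 1 := (hπ _).2 ⟨s, rfl⟩
    rw [← map_mul, hs, map_mul, h1, one_mul, map_mul]
  -- the two generators
  obtain ⟨x, hx⟩ : ∃ x, x = π (Psi 2 F D) := ⟨_, rfl⟩
  obtain ⟨y, hy⟩ : ∃ y, y = π (phi 2 F σ0) := ⟨_, rfl⟩
  have hx2 : x ^ 2 = 1 := by
    rw [hx, ← map_pow, ← map_pow, hπ]
    exact sq_inner (r := d) (by rw [map_pow, hD])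
  have hyf : y ^ Nat.card (F ≃+* F) = 1 := by
    rw [hy, ← map_pow, ← map_pow, pow_card_eq_one', map_one, map_one]
  have hxy : Commute x y := by rw [hx, hy]; exact hcm _ _
  obtain ⟨k, hk⟩ := hgal
  have hz1 : (x * y) ^ Nat.card (F ≃+* F) = x := by
    rw [hxy.mul_pow, hyf, mul_one, hk, pow_succ, pow_mul, hx2, one_pow, one_mul]
  have hz2 : (x * y) ^ (Nat.card (F ≃+* F) + 1) = y := by
    rw [pow_succ, hz1, ← mul_assoc, ← pow_two, hx2, one_mul]
  refine ⟨⟨x * y, fun w => ?_⟩⟩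
  have hxz : x ∈ Subgroup.zpowers (x * y) := ⟨(Nat.card (F ≃+* F) : ℕ), by
    show (x * y) ^ ((Nat.card (F ≃+* F) : ℕ) : ℤ) = x
    rw [zpow_natCast, hz1]⟩
  have hyz : y ∈ Subgroup.zpowers (x * y) := ⟨((Nat.card (F ≃+* F) + 1 : ℕ) : ℤ), by
    show (x * y) ^ ((Nat.card (F ≃+* F) + 1 : ℕ) : ℤ) = y
    rw [zpow_natCast, hz2]⟩
  obtain ⟨a, rfl⟩ := QuotientGroup.mk'_surjective _ w
  obtain ⟨C, σ, rfl⟩ := exists_form_two a
  rw [map_mul]
  refine Subgroup.mul_mem (Subgroup.zpowers (x * y)) ?_ ?_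
  · rcases hd (Matrix.GeneralLinearGroup.det C) with ⟨r, hr⟩ | ⟨r, hr⟩
    · have h1 : π (Psi 2 F C) = 1 := (hπ _).2 (sq_inner hr)
      show π (Psi 2 F C) ∈ _
      rw [h1]
      exact Subgroup.one_mem _
    · have h1 : π (Psi 2 F (D * C)) = 1 := (hπ _).2 (sq_inner (r := r) (by rw [map_mul, hD, hr]))
      rw [map_mul, map_mul, ← hx] at h1
      have h2 : π (Psi 2 F C) = x⁻¹ := eq_inv_of_mul_eq_one_right h1
      show π (Psi 2 F C) ∈ _
      rw [h2]
      exact Subgroup.inv_mem _ hxz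
  · obtain ⟨j, rfl⟩ := Subgroup.mem_zpowers_iff.1 (hσ0 σ)
    show π (phi 2 F (σ0 ^ j)) ∈ _
    rw [map_zpow, map_zpow, ← hy]
    exact Subgroup.zpow_mem _ hyz j

end outcyc

end Cfsg.Agent.H949.GoodPsl
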