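import Cfsg.Agent.H836.EightO

/-!
# The extraspecial group `2^{1+8}` in `Ω₈⁺(2)` (helper949)

* `exists_extra` : a group isomorphic to `Ω₈⁺(2)` contains a subgroup `E` of order `2⁹` with a central involution `z` such
  that every `x ∈ E`, `x ∉ {1, z}`, is conjugate to `x z` in `E`.
-/

set_option autoImplicit false

namespace Cfsg.Agent.H949.O8Heis

open Cfsg Cfsg.Agent.StdO8.Model Subgroup

/-- the coordinates of the four dimensional space -/
abbrev W : Type := Fin 4 → ZMod 2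

/-- the embedding -/
def io (w : W) : V := Sum.elim ![0, 0, w 0, w 1] ![0, 0, w 2, w 3]

/-- the form on `W` -/
def bW (w w' : W) : ZMod 2 := w 0 * w' 2 + w 1 * w' 3 + w 2 * w' 0 + w 3 * w' 1

def u0 : V := Sum.elim ![1, 0, 0, 0] ![0, 0, 0, 0]
def u1 : V := Sum.elim ![0, 1, 0, 0] ![0, 0, 0, 0]
def f0 : V := Sum.elim ![0, 0, 0, 0] ![1, 0, 0, 0]
def f1 : V := Sum.elim ![0, 0, 0, 0] ![0, 1, 0, 0]

theorem B_apply (u v : V) : B u v = ∑ i : Fin 4, (u (.inl i) * v (.inr i) + u (.inr i) * v (.inl i)) := by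
  unfold B QuadraticMap.polar
  rw [q_apply, q_apply, q_apply, ← Finset.sum_sub_distrib, ← Finset.sum_sub_distrib]
  refine Finset.sum_congr rfl fun i _ => ?_
  simp only [Pi.add_apply]
  ring

theorem io_add (w w' : W) : io (w + w') = io w + io w' := by
  funext i
  rcases i with i | i <;> fin_cases i <;> simp [io]

theorem q_u0 : q u0 = 0 := by rw [q_apply]; simp [u0, Fin.sum_univ_four]
theorem q_u1 : q u1 = 0 := by rw [q_apply]; simp [u1, Fin.sum_univ_four]
theorem B_u0_u1 : B u0 u1 = 0 := by rw [B_apply]; simp [u0, u1, Fin.sum_univ_four]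
theorem B_u0_io (w : W) : B u0 (io w) = 0 := by rw [B_apply]; simp [u0, io, Fin.sum_univ_four]
theorem B_u1_io (w : W) : B u1 (io w) = 0 := by rw [B_apply]; simp [u1, io, Fin.sum_univ_four]
theorem B_io (w w' : W) : B (io w) (io w') = bW w w' := by
  rw [B_apply]; simp [bW, io, Fin.sum_univ_four]; ring
theorem B_u0_f0 : B u0 f0 = 1 := by rw [B_apply]; simp [u0, f0, Fin.sum_univ_four]
theorem B_u1_f0 : B u1 f0 = 0 := by rw [B_apply]; simp [u1, f0, Fin.sum_univ_four]
theorem B_u0_f1 : B u0 f1 = 0 := by rw [B_apply]; simp [u0, f1, Fin.sum_univ_four]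
theorem B_u1_f1 : B u1 f1 = 1 := by rw [B_apply]; simp [u1, f1, Fin.sum_univ_four]
theorem B_io_f0 (w : W) : B (io w) f0 = 0 := by rw [B_apply]; simp [io, f0, Fin.sum_univ_four]
theorem B_io_f1 (w : W) : B (io w) f1 = 0 := by rw [B_apply]; simp [io, f1, Fin.sum_univ_four]

/-- the elements of `E` -/
noncomputable def aa (w : W) : V ≃ₗ[ZMod 2] V := X u0 (io w)
noncomputable def cc (w : W) : V ≃ₗ[ZMod 2] V := X u1 (io w)
noncomputable def zz (b : ZMod 2) : V ≃ₗ[ZMod 2] V := X u0 (b • u1)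

theorem aa_mul (w w' : W) : aa w * aa w' = aa (w + w') := by
  unfold aa
  rw [X_mul q_u0 (B_u0_io w) (B_u0_io w'), io_add]

theorem cc_mul (w w' : W) : cc w * cc w' = cc (w + w') := by
  unfold cc
  rw [X_mul q_u1 (B_u1_io w) (B_u1_io w'), io_add]

theorem B_u0_z (b : ZMod 2) : B u0 (b • u1) = 0 := by rw [B_smul_right, B_u0_u1, mul_zero]

theorem zz_mul (b b' : ZMod 2) : zz b * zz b' = zz (b + b') := by
  unfold zz
  rw [X_mul q_u0 (B_u0_z b) (B_u0_z b'), add_smul]

theorem zz_zero : zz 0 = 1 := by unfold zz; rw [zero_smul, X_zero_right]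

theorem zz_one : zz 1 = X u0 u1 := by unfold zz; rw [one_smul]

theorem zz_one' : zz 1 = X u1 u0 := by rw [zz_one, X_comm q_u0 q_u1]

theorem zz_aa (b : ZMod 2) (w : W) : zz b * aa w = aa w * zz b := by
  unfold zz aa
  rw [X_mul q_u0 (B_u0_z b) (B_u0_io w), X_mul q_u0 (B_u0_io w) (B_u0_z b), add_comm]

theorem zz_cc (b : ZMod 2) (w : W) : zz b * cc w = cc w * zz b := by
  rcases z2 b with rfl | rfl
  · rw [zz_zero, one_mul, mul_one]
  · rw [zz_one']
    unfold cc
    have h : B u1 u0 = 0 := by rw [B_comm]; exact B_u0_u1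
    rw [X_mul q_u1 h (B_u1_io w), X_mul q_u1 (B_u1_io w) h, add_comm]

theorem cc_conj (w w' : W) : cc w' * aa w * (cc w')⁻¹ = aa w * zz (bW w w') := by
  have h1 : cc w' u0 = u0 := by
    unfold cc
    have h : B u1 u0 = 0 := by rw [B_comm]; exact B_u0_u1
    have h' : B (io w') u0 = 0 := by rw [B_comm]; exact B_u0_io w'
    rw [X_apply' q_u1 (B_u1_io w'), h, h', mul_zero, zero_smul, zero_smul]
    simp
  have h2 : cc w' (io w) = io w + bW w w' • u1 := by
    unfold cc
    rw [X_apply' q_u1 (B_u1_io w'), B_u1_io w, B_comm (io w') (io w), B_io, mul_zero, zero_smul]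
    simp
  have h3 := X_conj (g := cc w') (X_mem_O8 _ _) u0 (io w)
  rw [h1, h2, ← X_mul q_u0 (B_u0_io w) (B_u0_z _)] at h3
  exact h3

theorem cc_aa (w w' : W) : cc w' * aa w = aa w * cc w' * zz (bW w w') := by
  have h := mul_inv_eq_iff_eq_mul.1 (cc_conj w w')
  rw [h, mul_assoc, zz_cc, mul_assoc]

/-- the elements of `E` -/
noncomputable def gg (w w' : W) (b : ZMod 2) : V ≃ₗ[ZMod 2] V := aa w * cc w' * zz b

theorem gg_mul (w w' : W) (b : ZMod 2) (x x' : W) (c : ZMod 2) :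
    gg w w' b * gg x x' c = gg (w + x) (w' + x') (b + c + bW x w') := by
  unfold gg
  calc aa w * cc w' * zz b * (aa x * cc x' * zz c) = aa w * cc w' * (zz b * aa x) * cc x' * zz c := by group
    _ = aa w * (cc w' * aa x) * zz b * cc x' * zz c := by rw [zz_aa]; group
    _ = aa w * aa x * cc w' * (zz (bW x w') * zz b) * cc x' * zz c := by rw [cc_aa]; group
    _ = aa w * aa x * cc w' * (zz (bW x w' + b) * cc x') * zz c := by rw [zz_mul]; group
    _ = (aa w * aa x) * (cc w' * cc x') * (zz (bW x w' + b) * zz c) := by rw [zz_cc]; group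
    _ = _ := by rw [aa_mul, cc_mul, zz_mul]; congr 2; ring

theorem io_zero : io 0 = 0 := by
  funext i
  rcases i with i | i <;> fin_cases i <;> simp [io]

theorem gg_one : gg 0 0 0 = 1 := by
  unfold gg aa cc
  rw [io_zero, X_zero_right, X_zero_right, zz_zero, mul_one, mul_one]

theorem gg_z : gg 0 0 1 = zz 1 := by
  unfold gg aa cc
  rw [io_zero, X_zero_right, X_zero_right, one_mul, one_mul]

theorem gg_mem (w w' : W) (b : ZMod 2) : gg w w' b ∈ Om :=
  mul_mem (mul_mem (X_mem _ _) (X_mem _ _)) (X_mem _ _)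

theorem add_self_W (w : W) : w + w = 0 := by
  funext i
  have : ∀ a : ZMod 2, a + a = 0 := by decide
  exact this (w i)

theorem gg_inv (w w' : W) (b : ZMod 2) : (gg w w' b)⁻¹ = gg w w' (b + bW w w') := by
  apply inv_eq_of_mul_eq_one_right
  rw [gg_mul, add_self_W, add_self_W, ← gg_one]
  congr 1
  have : ∀ a c : ZMod 2, a + (a + c) + c = 0 := by decide
  exact this _ _

theorem gg_f0 (w w' : W) (b : ZMod 2) : gg w w' b f0 = f0 + b • u1 + io w + q (io w) • u0 := by
  have h1 : zz b f0 = f0 + b • u1 := by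
    unfold zz
    rw [X_apply q_u0 _ (B_u0_z b), B_u0_f0, B_smul_left, B_u1_f0, mul_zero, zero_smul, one_smul, add_zero]
    rw [QuadraticMap.map_smul, q_u1, smul_zero]
  have h2 : cc w' (f0 + b • u1) = f0 + b • u1 := by
    unfold cc
    have e1 : B u1 (f0 + b • u1) = 0 := by rw [B_add_right, B_smul_right, B_u1_f0, B_self, mul_zero, add_zero]
    have e2 : B (io w') (f0 + b • u1) = 0 := by
      rw [B_add_right, B_smul_right, B_io_f0, B_comm, B_u1_io, mul_zero, add_zero]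
    rw [X_apply' q_u1 (B_u1_io w'), e1, e2, mul_zero, zero_smul, zero_smul]
    simp
  have h3 : aa w (f0 + b • u1) = f0 + b • u1 + io w + q (io w) • u0 := by
    unfold aa
    have e1 : B u0 (f0 + b • u1) = 1 := by rw [B_add_right, B_smul_right, B_u0_f0, B_u0_u1, mul_zero, add_zero]
    have e2 : B (io w) (f0 + b • u1) = 0 := by
      rw [B_add_right, B_smul_right, B_io_f0, B_comm, B_u1_io, mul_zero, add_zero]
    rw [X_apply' q_u0 (B_u0_io w), e1, e2, mul_one, zero_smul, one_smul]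
    simp
  show aa w (cc w' (zz b f0)) = _
  rw [h1, h2, h3]

theorem gg_f1 (w w' : W) (b : ZMod 2) : ∃ a c : ZMod 2, gg w w' b f1 = f1 + io w' + a • u0 + c • u1 := by
  have h1 : zz b f1 = f1 + b • u0 := by
    unfold zz
    rw [X_apply q_u0 _ (B_u0_z b), B_u0_f1, B_smul_left, B_u1_f1, mul_one, zero_smul, add_zero]
    rw [QuadraticMap.map_smul, q_u1, smul_zero]
  have h2 : cc w' (f1 + b • u0) = f1 + b • u0 + io w' + q (io w') • u1 := by
    unfold cc
    have e1 : B u1 (f1 + b • u0) = 1 := by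
      rw [B_add_right, B_smul_right, B_u1_f1, B_comm u1 u0, B_u0_u1, mul_zero, add_zero]
    have e2 : B (io w') (f1 + b • u0) = 0 := by
      rw [B_add_right, B_smul_right, B_io_f1, B_comm, B_u0_io, mul_zero, add_zero]
    rw [X_apply' q_u1 (B_u1_io w'), e1, e2, mul_one, zero_smul, one_smul]
    simp
  have h3 : aa w (f1 + b • u0 + io w' + q (io w') • u1) = f1 + b • u0 + io w' + q (io w') • u1 + bW w w' • u0 := by
    unfold aa
    have e1 : B u0 (f1 + b • u0 + io w' + q (io w') • u1) = 0 := by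
      rw [B_add_right, B_add_right, B_add_right, B_smul_right, B_smul_right, B_u0_f1, B_self, B_u0_io, B_u0_u1]
      simp
    have e2 : B (io w) (f1 + b • u0 + io w' + q (io w') • u1) = bW w w' := by
      rw [B_add_right, B_add_right, B_add_right, B_smul_right, B_smul_right, B_io_f1, B_comm (io w) u0, B_u0_io, B_io,
        B_comm (io w) u1, B_u1_io]
      simp
    rw [X_apply' q_u0 (B_u0_io w), e1, e2, mul_zero, zero_smul]
    simp
  refine ⟨b + bW w w', q (io w'), ?_⟩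
  show aa w (cc w' (zz b f1)) = _
  rw [h1, h2, h3, add_smul]
  abel

theorem io_inj {w x : W} (h : io w = io x) : w = x := by
  funext i
  fin_cases i
  · exact congrFun h (Sum.inl 2)
  · exact congrFun h (Sum.inl 3)
  · exact congrFun h (Sum.inr 2)
  · exact congrFun h (Sum.inr 3)

theorem gg_inj {w w' x x' : W} {b c : ZMod 2} (h : gg w w' b = gg x x' c) : w = x ∧ w' = x' ∧ b = c := by
  have h1 : gg w w' b f0 = gg x x' c f0 := by rw [h]
  rw [gg_f0, gg_f0] at h1
  obtain ⟨a1, c1, h2⟩ := gg_f1 w w' b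
  obtain ⟨a2, c2, h3⟩ := gg_f1 x x' c
  have h4 : f1 + io w' + a1 • u0 + c1 • u1 = f1 + io x' + a2 • u0 + c2 • u1 := by rw [← h2, ← h3, h]
  refine ⟨?_, ?_, ?_⟩
  · funext i
    fin_cases i
    · simpa [f0, u0, u1, io] using congrFun h1 (Sum.inl 2)
    · simpa [f0, u0, u1, io] using congrFun h1 (Sum.inl 3)
    · simpa [f0, u0, u1, io] using congrFun h1 (Sum.inr 2)
    · simpa [f0, u0, u1, io] using congrFun h1 (Sum.inr 3)
  · funext i
    fin_cases i
    · simpa [f1, u0, u1, io] using congrFun h4 (Sum.inl 2)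
    · simpa [f1, u0, u1, io] using congrFun h4 (Sum.inl 3)
    · simpa [f1, u0, u1, io] using congrFun h4 (Sum.inr 2)
    · simpa [f1, u0, u1, io] using congrFun h4 (Sum.inr 3)
  · simpa [f0, u0, u1, io] using congrFun h1 (Sum.inl 1)

/-- the group `E` -/
noncomputable def EE : Subgroup (V ≃ₗ[ZMod 2] V) where
  carrier := {g | ∃ w w' b, g = gg w w' b}
  one_mem' := ⟨0, 0, 0, gg_one.symm⟩
  mul_mem' := by
    rintro _ _ ⟨w, w', b, rfl⟩ ⟨x, x', c, rfl⟩
    exact ⟨_, _, _, gg_mul _ _ _ _ _ _⟩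
  inv_mem' := by
    rintro _ ⟨w, w', b, rfl⟩
    exact ⟨_, _, _, gg_inv _ _ _⟩

theorem nondegW : ∀ w : W, w ≠ 0 → ∃ x : W, bW w x = 1 := by decide +kernel

theorem bW_comm (w x : W) : bW w x = bW x w := by unfold bW; ring

theorem card_EE : Nat.card EE = 512 := by
  let f : W × W × ZMod 2 → EE := fun x => ⟨gg x.1 x.2.1 x.2.2, _, _, _, rfl⟩
  have hf : Function.Bijective f := by
    constructor
    · rintro ⟨w, w', b⟩ ⟨x, x', c⟩ h
      obtain ⟨h1, h2, h3⟩ := gg_inj (congrArg Subtype.val h)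
      exact Prod.ext h1 (Prod.ext h2 h3)
    · rintro ⟨_, w, w', b, rfl⟩
      exact ⟨(w, w', b), rfl⟩
  rw [← Nat.card_congr (Equiv.ofBijective f hf)]
  simp [Nat.card_eq_fintype_card]

/-- **the extraspecial group** -/
theorem exists_extra {Q : Type*} [Group Q] (e : Q ≃* Om) :
    ∃ (E : Subgroup Q) (z : E), z ≠ 1 ∧ z * z = 1 ∧ (∀ x, x * z = z * x) ∧
      (∀ x : E, x ≠ 1 → x ≠ z → ∃ h, h * x * h⁻¹ = x * z) ∧ 2 ^ (2 * 4 + 1) ∣ Nat.card E := by
  have hle : EE ≤ Om := by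
    rintro _ ⟨w, w', b, rfl⟩
    exact gg_mem w w' b
  let E : Subgroup Q := (EE.subgroupOf Om).comap e.toMonoidHom
  have hmem : ∀ {x : Q}, x ∈ E ↔ ((e x : Om) : V ≃ₗ[ZMod 2] V) ∈ EE := fun {x} => Iff.rfl
  let g (w w' : W) (b : ZMod 2) : Q := e.symm ⟨gg w w' b, gg_mem w w' b⟩
  have hg : ∀ w w' b, ((e (g w w' b) : Om) : V ≃ₗ[ZMod 2] V) = gg w w' b := fun w w' b => by
    show ((e (e.symm _) : Om) : V ≃ₗ[ZMod 2] V) = _
    rw [e.apply_symm_apply]
  have hgE : ∀ w w' b, g w w' b ∈ E := fun w w' b => hmem.2 ⟨w, w', b, hg w w' b⟩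
  have hinj : ∀ {x y : Q}, ((e x : Om) : V ≃ₗ[ZMod 2] V) = ((e y : Om) : V ≃ₗ[ZMod 2] V) → x = y :=
    fun h => e.injective (Subtype.ext h)
  have hex : ∀ x : E, ∃ w w' b, (x : Q) = g w w' b := by
    rintro ⟨x, hx⟩
    obtain ⟨w, w', b, h⟩ := hmem.1 hx
    exact ⟨w, w', b, hinj (by rw [h, hg])⟩
  have hmul : ∀ w w' b x x' c, g w w' b * g x x' c = g (w + x) (w' + x') (b + c + bW x w') := by
    intro w w' b x x' c
    apply hinj
    rw [map_mul, Subgroup.coe_mul, hg, hg, hg, gg_mul]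
  have hone : g 0 0 0 = 1 := by
    apply hinj
    rw [hg, gg_one, map_one]
    rfl
  have hb0 : ∀ w : W, bW 0 w = 0 := fun w => by unfold bW; simp
  have hb0' : ∀ w : W, bW w 0 = 0 := fun w => by unfold bW; simp
  refine ⟨E, ⟨g 0 0 1, hgE _ _ _⟩, ?_, ?_, ?_, ?_, ?_⟩
  · intro h
    have h1 : g 0 0 1 = g 0 0 0 := by rw [hone]; exact congrArg Subtype.val h
    have h2 : gg 0 0 1 = gg 0 0 0 := by rw [← hg, ← hg, h1]
    exact absurd (gg_inj h2).2.2 (by decide)
  · apply Subtype.ext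
    show g 0 0 1 * g 0 0 1 = 1
    rw [hmul, hb0, ← hone]
    congr 1
  · rintro ⟨x, hx⟩
    apply Subtype.ext
    show x * g 0 0 1 = g 0 0 1 * x
    obtain ⟨w, w', b, h⟩ := hex ⟨x, hx⟩
    have h : x = g w w' b := h
    rw [h, hmul, hmul, hb0, hb0', add_comm w 0, add_comm w' 0, add_comm b 1]
  · rintro ⟨x, hx⟩ hx1 hxz
    obtain ⟨w, w', b, h⟩ := hex ⟨x, hx⟩
    have h : x = g w w' b := h
    subst h
    have hne : w ≠ 0 ∨ w' ≠ 0 := by
      by_contra hcon
      push Not at hcon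
      obtain ⟨rfl, rfl⟩ := hcon
      rcases z2 b with rfl | rfl
      · exact hx1 (Subtype.ext hone)
      · exact hxz rfl
    obtain ⟨y, y', hy⟩ : ∃ y y' : W, bW w y' + bW y w' = 1 := by
      rcases hne with h | h
      · obtain ⟨y', hy'⟩ := nondegW w h
        exact ⟨0, y', by rw [hy', hb0, add_zero]⟩
      · obtain ⟨y, hy⟩ := nondegW w' h
        exact ⟨y, 0, by rw [hb0', zero_add, bW_comm, hy]⟩
    refine ⟨⟨g y y' 0, hgE _ _ _⟩, ?_⟩
    rw [mul_inv_eq_iff_eq_mul]
    apply Subtype.ext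
    show g y y' 0 * g w w' b = g w w' b * g 0 0 1 * g y y' 0
    rw [hmul, hmul, hmul, hb0, add_zero, add_zero, add_zero, add_comm y w, add_comm y' w']
    congr 1
    have h2 : bW w y' = 1 + bW y w' := by
      have : ∀ a c : ZMod 2, a + c = 1 → a = 1 + c := by decide
      exact this _ _ hy
    rw [h2]
    ring
  · have h1 : Nat.card E = 512 := by
      have h2 : E = (EE.subgroupOf Om).map e.symm.toMonoidHom := (Subgroup.map_equiv_eq_comap_symm' e.symm _).symm
      rw [h2, ← card_EE, ← Nat.card_congr ((Subgroup.equivMapOfInjective _ e.symm.toMonoidHom e.symm.injective).toEquiv)]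
      exact Nat.card_congr (Subgroup.subgroupOfEquivOfLe hle).toEquiv
    rw [h1]
    norm_num

end Cfsg.Agent.H949.O8Heis
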