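import Cfsg.Agent.H949.O8Core
import Cfsg.Agent.H284.StdRed
import Cfsg.Agent.H284.AltComp
import Cfsg.Agent.S1311
import Cfsg.Agent.Omega.TwoF.RowHe
import Cfsg.Agent.OddHalf.D8.Fi22.OrdEven
import Cfsg.Agent.OddHalf.Soft

/-!
# Standard subgroups `2.Ω₈⁺(2)` (helper949)

Reduction of S3144 to the case of a simple group of Lie type in odd characteristic.
-/

set_option autoImplicit false

namespace Cfsg.Agent.H949.O8Std

open Subgroup Cfsg
open Cfsg.Agent.H284

universe u

/-- transport of the quotient by the centre -/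
theorem quot_center_equiv {A B : Type*} [Group A] [Group B] (e : A ≃* B) :
    Nonempty ((A ⧸ center A) ≃* (B ⧸ center B)) := by
  have h : (center A).map e.toMonoidHom = center B := by
    ext x
    constructor
    · rintro ⟨a, ha, rfl⟩
      rw [mem_center_iff]
      intro g
      have h1 := mem_center_iff.1 ha (e.symm g)
      have h2 := congrArg e h1
      rw [map_mul, map_mul, e.apply_symm_apply] at h2
      exact h2
    · intro hx
      refine ⟨e.symm x, ?_, e.apply_symm_apply x⟩
      show e.symm x ∈ center A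
      rw [mem_center_iff]
      intro g
      have h1 := mem_center_iff.1 hx (e g)
      have h2 := congrArg e.symm h1
      rw [map_mul, map_mul, e.symm_apply_apply] at h2
      exact h2
  exact ⟨QuotientGroup.congr (center A) (center B) e h⟩

theorem card_center_congr {A B : Type*} [Group A] [Group B] (e : A ≃* B) :
    Nat.card ↥(center A) = Nat.card ↥(center B) :=
  Nat.card_congr (Subgroup.centerCongr e).toEquiv

theorem xo82_congr {A : Type*} {B : Type*} [Group A] [Group B] {F : Type*} [Field F] [Fintype F]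
    (hF : Fintype.card F = 2) (e : A ≃* B) (h : Nonempty (A ≃* POmega F (quadFormPlus 4 F))) :
    Nonempty (B ≃* POmega (ZMod 2) (quadFormPlus 4 (ZMod 2))) := by
  obtain ⟨e1⟩ := h
  obtain ⟨e2⟩ := StdO8.Model.exists_equiv hF
  obtain ⟨e3⟩ := StdO8.Model.exists_equiv (F := ZMod 2) (by rw [ZMod.card])
  exact ⟨((e.symm.trans e1).trans e2).trans e3.symm⟩

variable {G : Type u} [Group G] [Finite G]

/-- The Lie type rows: no double cover of `Ω₈⁺(2)` is a component of an involution centralizer. -/
def LieRow : Prop :=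
  ∀ (p : ℕ), p.Prime → p ≠ 2 → ∀ (X : Type u) [Group X] [Finite X] [IsSimpleGroup X],
    IsLieTypeChar p X → ∀ (t : MulAut X), t * t = 1 → t ≠ 1 → ∀ A : Subgroup ↥(fixedSubgroup t),
    A.Normal → IsComponent A → Nat.card ↥(center ↥A) = 2 → Cfsg.Agent.OddHalf.D9.Cut.XO82 (↥A ⧸ center ↥A) → False

/-- the order of a double cover of `Ω₈⁺(2)` -/
theorem card_dc {A : Type u} [Group A] [Finite A] (h2 : Nat.card ↥(center A) = 2)
    (h : Cfsg.Agent.OddHalf.D9.Cut.XO82 (A ⧸ center A)) : Nat.card A = 348364800 := by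
  have h1 := card_eq_card_quotient_mul_card_subgroup (center A)
  rw [h2, Cfsg.Agent.OddHalf.D8.Fi22.OrdEven.card_o82 h] at h1
  rw [h1]

/-- The simple group case. -/
theorem simple_case (hLie : LieRow.{u}) {X : Type u} [Group X] [Finite X] [IsSimpleGroup X]
    (hna : ¬ IsMulCommutative X) {K : Subgroup X} (hq : IsQuasisimple ↥K)
    (h2 : Nat.card ↥(center ↥K) = 2) (hX : Cfsg.Agent.OddHalf.D9.Cut.XO82 (↥K ⧸ center ↥K)) {z : X} (hzK : z ∈ K)
    (hzc : z ∈ centralizer (K : Set X)) (hz : orderOf z = 2)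
    (hN : centralizer ({z} : Set X) ≤ normalizer (K : Set X))
    (hcyc : ∀ R : Sylow 2 ↥(centralizer (K : Set X)), IsCyclic ↥(R : Subgroup ↥(centralizer (K : Set X)))) :
    False := by
  have hz1 : z ≠ 1 := by
    rintro rfl
    rw [orderOf_one] at hz
    norm_num at hz
  by_cases hO : centralizerPPrimeCore 2 z = ⊥
  · exact O8Core.false_of_core hq.1.1 h2 hX hzK hzc hz1 hN hcyc hO
  -- the unbalanced case
  let eF := Cfsg.Agent.OddHalf.Soft.fstarEquiv hna
  have hs : IsSimpleGroup ↥(generalizedFittingSubgroup X) := Cfsg.Agent.OddHalf.Known.isSimple_congr eF.symm inferInstance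
  have hna' : ¬ IsMulCommutative ↥(generalizedFittingSubgroup X) := by
    intro h
    apply hna
    refine ⟨⟨fun a b => ?_⟩⟩
    have h1 := h.is_comm.comm (eF.symm a) (eF.symm b)
    have h3 := congrArg eF h1
    rwa [map_mul, map_mul, eF.apply_symm_apply, eF.apply_symm_apply] at h3
  have hKc : Nat.card ↥K = 348364800 := card_dc h2 hX
  have hdvd : 348364800 ∣ Nat.card X := hKc ▸ card_subgroup_dvd_card K
  -- the component
  have hKz : K ≤ centralizer {z} := by
    intro a ha
    rw [mem_centralizer_singleton_iff]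
    exact mem_centralizer_iff.1 hzc a ha
  have hfix : fixedSubgroup (MulAut.conj z) = centralizer ({z} : Set X) := by
    ext x
    rw [mem_centralizer_singleton_iff]
    show z * x * z⁻¹ = x ↔ x * z = z * x
    rw [mul_inv_eq_iff_eq_mul]
    exact ⟨fun h => h.symm, fun h => h.symm⟩
  set t : MulAut X := MulAut.conj z with ht
  have htt : t * t = 1 := by
    rw [ht, ← map_mul]
    have : z * z = 1 := by
      have := pow_orderOf_eq_one z
      rw [hz, pow_two] at this
      exact this
    rw [this, map_one]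
  have hc : center X = ⊥ := by
    rcases (inferInstance : (center X).Normal).eq_bot_or_eq_top with h | h
    · exact h
    · exfalso
      apply hna
      refine ⟨⟨fun a b => ?_⟩⟩
      have ha : a ∈ center X := by rw [h]; exact mem_top a
      exact ((mem_center_iff.1 ha) b).symm
  have ht1 : t ≠ 1 := by
    intro h
    apply hz1
    have : z ∈ center X := by
      rw [mem_center_iff]
      intro g
      have h1 : t g = g := by rw [h]; rfl
      have h3 : z * g * z⁻¹ = g := h1
      rw [mul_inv_eq_iff_eq_mul] at h3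
      exact h3.symm
    rw [hc, mem_bot] at this
    exact this
  have hKf : K ≤ fixedSubgroup t := hfix ▸ hKz
  let A : Subgroup ↥(fixedSubgroup t) := K.subgroupOf (fixedSubgroup t)
  have eA : ↥A ≃* ↥K := subgroupOfEquivOfLe hKf
  have hn : (K.subgroupOf (fixedSubgroup t)).Normal :=
    (normal_subgroupOf_iff_le_normalizer hKf).2 (hfix ▸ hN)
  have hA : IsComponent A := by
    exact ⟨hn.isSubnormal, Cfsg.Agent.SignalizersComponents.QsBasic.isQuasisimple_of_mulEquiv eA.symm hq⟩
  have hA2 : Nat.card ↥(center ↥A) = 2 := (card_center_congr eA).trans h2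
  have hAX : Cfsg.Agent.OddHalf.D9.Cut.XO82 (↥A ⧸ center ↥A) := by
    obtain ⟨F, i, j, hF, ⟨e⟩⟩ := hX
    obtain ⟨e'⟩ := quot_center_equiv eA
    exact ⟨F, i, j, hF, ⟨e'.trans e⟩⟩
  rcases S1311.result hs hna' z hz hO with ⟨p, hp, hp2, hL⟩ | ⟨n, -, hn7, ⟨e⟩⟩ | ⟨F, i, j, hF, ⟨e⟩⟩ | hHe
  · have hLX : IsLieTypeChar p X := Cfsg.Agent.OddHalf.Known.isLieTypeChar_congr eF hL
    exact hLie p hp hp2 X hLX t htt ht1 A hn hA hA2 hAX
  · obtain ⟨m, k, hm, -, -, ⟨e2⟩, -, -⟩ := AltComp.table (m := n) (by omega) (eF.symm.trans e) htt ht1 hA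
    have h3 : Nat.card ↥(center ↥(alternatingGroup (Fin m))) = 1 := by
      rw [alternatingGroup.center_eq_bot (by rw [Nat.card_fin]; omega), card_bot]
    rw [card_center_congr e2, h3] at hA2
    norm_num at hA2
  · have h3 : Nat.card X = 20160 := by
      have h4 : Nat.card (Matrix.ProjectiveSpecialLinearGroup (Fin 3) F) = 20160 := by
        have h := Cfsg.Agent.S0243.result hF 3 (by norm_num)
        have e : (∏ i : Fin 3, (4 ^ 3 - 4 ^ (i : ℕ)) : ℕ) = 181440 := by
          simp [Fin.prod_univ_three]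
        rw [e] at h
        have h3 : Nat.gcd 3 (4 - 1) = 3 := by norm_num
        rw [h3] at h
        omega
      rw [Nat.card_congr eF.symm.toEquiv, Nat.card_congr e.toEquiv, h4]
    rw [h3] at hdvd
    norm_num at hdvd
  · have h3 := (Cfsg.Agent.Omega.TwoF.RowHe.card_of hHe).2
    rw [Nat.card_congr eF.toEquiv] at h3
    rw [h3] at hdvd
    norm_num at hdvd

/-- **S3144 from the Lie type rows.** -/
theorem main (hLie : LieRow.{u}) (hO : oddCore G = ⊥) (L : Subgroup G) (hL : IsStandardSubgroup L)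
    {F : Type*} [Field F] [Fintype F] (hF : Fintype.card F = 2)
    (hZ : Nat.card ↥(center ↥L) = 2) (hLX : Nonempty ((↥L ⧸ center ↥L) ≃* POmega F (quadFormPlus 4 F)))
    (hR : ∀ R : Sylow 2 ↥(centralizer (L : Set G)), IsCyclic ↥(R : Subgroup ↥(centralizer (L : Set G)))) :
    L.Normal := by
  by_contra hnL
  have hev : Even (Nat.card ↥(center ↥L)) := by rw [hZ]; exact even_two
  obtain ⟨hle, hs, hna, -⟩ := StdRed.red hO hL hnL hev
  obtain ⟨z, hzL, hz, hzc⟩ := StdRed.exists_involution hev
  have hN := Cfsg.Agent.SignalizersComponents.StandardTrichotomy.centralizer_involution_le hL hz hzc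
  let X : Subgroup G := layer G
  let K : Subgroup ↥X := L.subgroupOf X
  have eK : ↥K ≃* ↥L := subgroupOfEquivOfLe hle
  let z' : ↥X := ⟨z, hle hzL⟩
  have hq : IsQuasisimple ↥K := Cfsg.Agent.SignalizersComponents.QsBasic.isQuasisimple_of_mulEquiv eK.symm hL.1
  have h2 : Nat.card ↥(center ↥K) = 2 := (card_center_congr eK).trans hZ
  have hX : Cfsg.Agent.OddHalf.D9.Cut.XO82 (↥K ⧸ center ↥K) := by
    obtain ⟨e'⟩ := quot_center_equiv eK
    obtain ⟨e⟩ := xo82_congr hF e'.symm hLX
    exact ⟨ZMod 2, inferInstance, inferInstance, ZMod.card 2, ⟨e⟩⟩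
  have hzK : z' ∈ K := mem_subgroupOf.2 hzL
  have hcen : ∀ x : ↥X, x ∈ centralizer (K : Set ↥X) ↔ (x : G) ∈ centralizer (L : Set G) := by
    intro x
    rw [mem_centralizer_iff, mem_centralizer_iff]
    constructor
    · intro h a ha
      exact congrArg Subtype.val (h ⟨a, hle ha⟩ (mem_subgroupOf.2 ha))
    · intro h a ha
      exact Subtype.ext (h a (mem_subgroupOf.1 ha))
  have hz' : orderOf z' = 2 := by rw [← hz, ← Subgroup.orderOf_coe]
  have hN' : centralizer ({z'} : Set ↥X) ≤ normalizer (K : Set ↥X) := by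
    intro x hx
    rw [mem_centralizer_singleton_iff] at hx
    have h1 : (x : G) ∈ normalizer (L : Set G) := hN (mem_centralizer_singleton_iff.2 (congrArg Subtype.val hx))
    rw [mem_normalizer_iff] at h1 ⊢
    intro a
    exact h1 a
  refine simple_case hLie hna hq h2 hX hzK ((hcen z').2 hzc) hz' hN' ?_
  intro R
  let f : ↥(centralizer (K : Set ↥X)) →* ↥(centralizer (L : Set G)) :=
    (X.subtype.comp (centralizer (K : Set ↥X)).subtype).codRestrict _ fun x => (hcen x).1 x.2
  have hf : Function.Injective f := by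
    intro a b h
    have h5 : ((f a : ↥(centralizer (L : Set G))) : G) = ((f b : ↥(centralizer (L : Set G))) : G) := by rw [h]
    have h6 : ((a : ↥X) : G) = ((b : ↥X) : G) := h5
    exact Subtype.ext (Subtype.ext h6)
  have h3 : IsPGroup 2 ↥((R : Subgroup ↥(centralizer (K : Set ↥X))).map f) := R.isPGroup'.map f
  obtain ⟨S, hS⟩ := h3.exists_le_sylow
  have := hR S
  have h4 : IsCyclic ↥((R : Subgroup ↥(centralizer (K : Set ↥X))).map f) :=
    isCyclic_of_injective (Subgroup.inclusion hS) (Subgroup.inclusion_injective hS)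
  exact isCyclic_of_surjective ((R : Subgroup ↥(centralizer (K : Set ↥X))).equivMapOfInjective f hf).symm
    (MulEquiv.surjective _)

end Cfsg.Agent.H949.O8Std
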