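import Cfsg.Agent.H949.O8Heis
import Cfsg.Agent.H949.O8Std
import Cfsg.Agent.H329.CompExtra
import Cfsg.Agent.H289.NoAlt
import Cfsg.Agent.H283.OddSpor
import Cfsg.Agent.FixBN.Transport

/-!
# No double cover of `Ω₈⁺(2)` is a normal component of an involution centralizer in a group of odd characteristic (helper949)
-/

set_option autoImplicit false

namespace Cfsg.Agent.H949.O8Lie

open Subgroup Cfsg Cfsg.Agent.FixBN Cfsg.Agent.H283

universe u

/-- the order of the automorphism group -/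
theorem card_aut {Q : Type u} [Group Q] (h : Cfsg.Agent.OddHalf.D9.Cut.XO82 Q) :
    Nat.card (MulAut Q) = 2 ^ 13 * 3 ^ 6 * 5 ^ 2 * 7 ∧ Nonempty (Q ≃* StdO8.Model.Om) := by
  obtain ⟨F, i, j, hF, ⟨e⟩⟩ := h
  obtain ⟨e2⟩ := StdO8.Model.exists_equiv hF
  refine ⟨?_, ⟨e.trans e2⟩⟩
  rw [Nat.card_congr (MulAut.congr (e.trans e2)).toEquiv, H836.EightO.card_mulAut]
  norm_num

/-- a simple group of Lie type of odd characteristic, not a small Ree group, has a split (B,N)-pair -/
theorem hasSplit {X : Type u} [Group X] [IsSimpleGroup X] {p : ℕ} (hp2 : p ≠ 2) (hX : IsLieTypeChar p X)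
    (hR : ¬ Lie.IsoRee X) : HasSplit p X := by
  rcases exists_good_model hp2 hX with ⟨K, _, _, _, _, h, ⟨e⟩⟩ | h
  · exact Transport.hasSplit_congr e.symm h.hasSplit
  · exact absurd h hR

/-- a (B,N)-pair of characteristic `p` and positive rank: `p` divides the order -/
theorem dvd_card_of_charBN {p : ℕ} [hp : Fact p.Prime] {Q : Type u} [Group Q] [Finite Q] (h : DescComp.CharBN p Q) :
    p ∣ Nat.card Q := by
  obtain ⟨P, U, ⟨s, hs⟩, hU, hUB, hn, hc⟩ := h
  by_contra hd
  have hU1 : U = ⊥ := by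
    obtain ⟨n, hn⟩ := hU.exists_card_eq
    have h1 : Nat.card U ∣ Nat.card Q := card_subgroup_dvd_card U
    rcases Nat.eq_zero_or_pos n with h0 | h0
    · rw [h0, pow_zero] at hn
      exact Subgroup.card_eq_one.1 hn
    · exact absurd ((dvd_pow_self p h0.ne').trans (hn ▸ h1)) hd
  have hBT : ∀ b ∈ P.B, b ∈ P.B ⊓ P.N := by
    intro b hb
    obtain ⟨u, hu, t, ht, h1⟩ := hc b hb
    rw [hU1, mem_bot] at hu
    rw [h1, hu, one_mul]
    exact ht
  have hsN : s ∈ P.N := P.subset hs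
  apply P.conj_ne s hs
  ext x
  constructor
  · rintro ⟨b, hb, rfl⟩
    have h1 := P.conj_mem s hsN b (hBT b hb)
    have h2 : s * b * s = (s * b * s⁻¹) * (s * s) := by group
    show s * b * s ∈ P.B
    rw [h2]
    exact mul_mem h1 (P.sq_mem s hs)
  · intro hx
    have hx : x ∈ P.B := hx
    have h1 : x * (s * s)⁻¹ ∈ P.B := mul_mem hx (inv_mem (P.sq_mem s hs))
    have h2 := P.conj_mem s⁻¹ (P.N.inv_mem hsN) _ (hBT _ h1)
    refine ⟨_, h2, ?_⟩
    show s * (s⁻¹ * (x * (s * s)⁻¹) * s⁻¹⁻¹) * s = x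
    group

/-- **the row** -/
theorem row {p : ℕ} (hp : p.Prime) (hp2 : p ≠ 2) {X : Type u} [Group X] [Finite X] [IsSimpleGroup X]
    (hX : IsLieTypeChar p X) {t : MulAut X} (ht : t * t = 1) (A : Subgroup ↥(fixedSubgroup t)) [hn : A.Normal]
    (hA : IsComponent A) (h2 : Nat.card ↥(center ↥A) = 2)
    (hAX : Cfsg.Agent.OddHalf.D9.Cut.XO82 (↥A ⧸ center ↥A)) : False := by
  have : Fact p.Prime := ⟨hp⟩
  have hcA : Nat.card ↥A = 348364800 := O8Std.card_dc h2 hAX
  by_cases hR : Lie.IsoRee X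
  · apply (Cfsg.Agent.H289.NoAlt.ree hR).2
    have h1 : Nat.card ↥A ∣ Nat.card ↥(fixedSubgroup t) := card_subgroup_dvd_card A
    have h3 : Nat.card ↥(fixedSubgroup t) ∣ Nat.card X := card_subgroup_dvd_card _
    rw [hcA] at h1
    exact (by norm_num : 16 ∣ 348364800).trans (h1.trans h3)
  obtain ⟨hcard, ⟨e⟩⟩ := card_aut hAX
  by_cases hd : p ∣ Nat.card ↥A
  · obtain ⟨E, z, hz1, hz2, hz3, hz4, hE⟩ := O8Heis.exists_extra e
    obtain ⟨k, hk, hcase⟩ := H329.CompExtra.comp_extra hp2 (hasSplit hp2 hX hR) t ht A hA.2 hd E hz1 hz2 hz3 hz4 hE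
    rw [hcard] at hk
    rw [hcA] at hd
    have hp' : p = 2 ∨ p = 3 ∨ p = 5 ∨ p = 7 := by
      have h3 : (348364800 : ℕ) = 2 ^ 13 * 3 ^ 5 * 5 ^ 2 * 7 := by norm_num
      rw [h3] at hd
      rcases hp.dvd_mul.1 hd with h | h
      · rcases hp.dvd_mul.1 h with h | h
        · rcases hp.dvd_mul.1 h with h | h
          · exact Or.inl ((Nat.prime_dvd_prime_iff_eq hp Nat.prime_two).1 (hp.dvd_of_dvd_pow h))
          · exact Or.inr (Or.inl ((Nat.prime_dvd_prime_iff_eq hp Nat.prime_three).1 (hp.dvd_of_dvd_pow h)))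
        · exact Or.inr (Or.inr (Or.inl ((Nat.prime_dvd_prime_iff_eq hp Nat.prime_five).1 (hp.dvd_of_dvd_pow h))))
      · exact Or.inr (Or.inr (Or.inr ((Nat.prime_dvd_prime_iff_eq hp (by norm_num)).1 h)))
    have hk7 : k ≤ 6 := by
      refine hk.trans ?_
      by_contra hlt
      push Not at hlt
      have h3 : p ^ 7 ∣ 2 ^ 13 * 3 ^ 6 * 5 ^ 2 * 7 :=
        (pow_dvd_pow p hlt).trans (Nat.ordProj_dvd _ p)
      rcases hp' with rfl | rfl | rfl | rfl <;> first | exact hp2 rfl | (revert h3; norm_num)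
    have hk' : p = 7 → k ≤ 3 := by
      rintro rfl
      refine hk.trans ?_
      by_contra hlt
      push Not at hlt
      have h3 : 7 ^ 4 ∣ 2 ^ 13 * 3 ^ 6 * 5 ^ 2 * 7 :=
        (pow_dvd_pow 7 hlt).trans (Nat.ordProj_dvd _ 7)
      revert h3
      norm_num
    rcases hp' with rfl | rfl | rfl | rfl
    · exact hp2 rfl
    · interval_cases k <;> simp at hcase
    · interval_cases k <;> simp at hcase
    · have := hk' rfl
      interval_cases k <;> simp at hcase
  · -- `p` does not divide `|Aut|`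
    have hpd : ¬ p ∣ Nat.card (MulAut (↥A ⧸ center ↥A)) := by
      intro h
      apply hd
      rw [hcard] at h
      rw [hcA]
      have h3 : (348364800 : ℕ) = 2 ^ 13 * 3 ^ 5 * 5 ^ 2 * 7 := by norm_num
      rw [h3]
      rcases hp.dvd_mul.1 h with h | h
      · rcases hp.dvd_mul.1 h with h | h
        · rcases hp.dvd_mul.1 h with h | h
          · have := hp.dvd_of_dvd_pow h
            exact absurd ((Nat.prime_dvd_prime_iff_eq hp Nat.prime_two).1 this) hp2
          · have := hp.dvd_of_dvd_pow h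
            exact this.trans ⟨2 ^ 13 * 3 ^ 4 * 5 ^ 2 * 7, by norm_num⟩
        · have := hp.dvd_of_dvd_pow h
          exact this.trans ⟨2 ^ 13 * 3 ^ 5 * 5 * 7, by norm_num⟩
      · exact h.trans ⟨2 ^ 13 * 3 ^ 5 * 5 ^ 2, by norm_num⟩
    have hin : OddComp.Inn p A := by
      rintro u ⟨n, hu⟩
      have hun : u ∈ normalizer (A : Set ↥(fixedSubgroup t)) := by
        rw [normalizer_eq_top_iff.2 hn]; trivial
      have h1 : (Schreier.Balance.quoAut ↥A (A.normalizerMonoidHom ⟨u, hun⟩)) ^ p ^ n = 1 := by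
        rw [← map_pow, ← map_pow]
        have : (⟨u, hun⟩ : ↥(normalizer (A : Set ↥(fixedSubgroup t)))) ^ p ^ n = 1 := Subtype.ext hu
        rw [this, map_one, map_one]
      have h4 : Schreier.Balance.quoAut ↥A (A.normalizerMonoidHom ⟨u, hun⟩) = 1 := by
        have h5 := orderOf_dvd_of_pow_eq_one h1
        have h6 := orderOf_dvd_natCard (Schreier.Balance.quoAut ↥A (A.normalizerMonoidHom ⟨u, hun⟩))
        have h7 : Nat.Coprime (p ^ n) (Nat.card (MulAut (↥A ⧸ center ↥A))) :=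
          Nat.Coprime.pow_left _ ((Nat.Prime.coprime_iff_not_dvd hp).2 hpd)
        exact orderOf_eq_one_iff.1 (Nat.eq_one_of_dvd_coprimes h7 h5 h6)
      exact OddComp.mem_sup_of_quo hA.2 hun (a := 1) (by rw [h4, map_one])
    have h8 := OddComp.odd_row hp2 hX hR t (by rw [pow_two, ht]) A hA hin
    have h9 := dvd_card_of_charBN h8
    apply hd
    have h10 := card_eq_card_quotient_mul_card_subgroup (center ↥A)
    rw [h10]
    exact h9.mul_right _

theorem lieRow : O8Std.LieRow.{u} := by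
  intro p hp hp2 X _ _ _ hX t ht _ A hn hA h2 hAX
  exact row hp hp2 hX ht A hA h2 hAX

end Cfsg.Agent.H949.O8Lie
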