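import Cfsg.Agent.OddHalf.D6.Six.Reduce

/-!
# An involution centralizer `⟨x⟩ × S₆`: the case that `x` is in the centre of a Sylow 2-subgroup (helper949)

`SSix.odd_case`: a finite group without homomorphism onto `{±1}`, with `C_G(x) = ⟨x⟩ × φ(S₆)`, has order divisible
by 64.
-/

set_option autoImplicit false

set_option linter.unusedSimpArgs false

namespace Cfsg.Agent.H949.SixOdd

open Subgroup Equiv Cfsg.Agent.OddHalf.D6.Six

/-- `{1, c₁, c₂, c₃}` -/
def Z4 (q : Perm (Fin 6)) : Prop := q = 1 ∨ q = c1 ∨ q = c2 ∨ q = c3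

instance : DecidablePred Z4 := fun p => by unfold Z4; infer_instance

theorem Z4_mul {v w : Perm (Fin 6)} (hv : Z4 v) (hw : Z4 w) : Z4 (v * w) := by
  rcases hv with rfl | rfl | rfl | rfl <;> rcases hw with rfl | rfl | rfl | rfl <;> decide

theorem Z4_sq {v : Perm (Fin 6)} (hv : Z4 v) : v * v = 1 := by
  rcases hv with rfl | rfl | rfl | rfl <;> decide

theorem Z4_PP {v : Perm (Fin 6)} (hv : Z4 v) : PP v := by
  rcases hv with rfl | rfl | rfl | rfl <;> decide

theorem Z4_comm : ∀ p : Perm (Fin 6), PP p → p * c3 = c3 * p := by decide +kernel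

theorem Z4_comm' {p v : Perm (Fin 6)} (hp : PP p) (hv : Z4 v) : p * v = v * p := by
  rcases hv with rfl | rfl | rfl | rfl
  · rw [one_mul, mul_one]
  · exact hp.1
  · exact hp.2
  · exact Z4_comm p hp

theorem coset_dec : ∀ p : Perm (Fin 6), PP p → p * p = 1 → Z4 p ∨ Z4 (a0 * p) ∨ Z4 (e0 * p) := by
  decide +kernel

/-- the elements of the centre of `T` -/
def Zs {G : Type*} [Group G] (x : G) (φ : Perm (Fin 6) →* G) : Set G :=
  {w | ∃ q, Z4 q ∧ (w = φ q ∨ w = x * φ q)}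

variable {G : Type*} [Group G] {x : G} {φ : Perm (Fin 6) →* G}

theorem Zs_T (S : SSix x φ) {w : G} (hw : w ∈ Zs x φ) : w ∈ TT x φ := by
  obtain ⟨q, hq, h⟩ := hw
  exact S.mem_TT_iff.2 ⟨q, Z4_PP hq, h⟩

theorem Zs_comm (S : SSix x φ) {w : G} (hw : w ∈ Zs x φ) : ∀ t ∈ TT x φ, t * w = w * t := by
  intro t ht
  obtain ⟨q, hq, h⟩ := hw
  obtain ⟨p, hp, hpt⟩ := S.mem_TT_iff.1 ht
  have h1 := Z4_comm' hp hq
  have h2 : t * φ q = φ q * t := by
    rcases hpt with rfl | rfl
    · exact S.comm_iff.2 h1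
    · exact S.comm_iff'.2 h1
  rcases h with rfl | rfl
  · exact h2
  · rw [← mul_assoc, (mem_TT.1 ht).1, mul_assoc, h2, mul_assoc]

theorem Zs_of (S : SSix x φ) {w : G} (hw : w ∈ TT x φ) (h : ∀ t ∈ TT x φ, t * w = w * t) : w ∈ Zs x φ :=
  S.center_TT hw h

theorem Zs_mul (S : SSix x φ) {v w : G} (hv : v ∈ Zs x φ) (hw : w ∈ Zs x φ) : v * w ∈ Zs x φ := by
  apply Zs_of S (mul_mem (Zs_T S hv) (Zs_T S hw))
  intro t ht
  rw [← mul_assoc, Zs_comm S hv t ht, mul_assoc, Zs_comm S hw t ht, mul_assoc]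

theorem Zs_phi {q : Perm (Fin 6)} (hq : Z4 q) : φ q ∈ Zs x φ := ⟨q, hq, Or.inl rfl⟩

theorem Zs_xphi {q : Perm (Fin 6)} (hq : Z4 q) : x * φ q ∈ Zs x φ := ⟨q, hq, Or.inr rfl⟩

theorem Zs_x : x ∈ Zs x φ := ⟨1, Or.inl rfl, Or.inr (by rw [map_one, mul_one])⟩

theorem sq_xphi (S : SSix x φ) (p : Perm (Fin 6)) : (x * φ p) * (x * φ p) = φ (p * p) := by
  calc (x * φ p) * (x * φ p) = x * (φ p * x) * φ p := by group
    _ = x * x * (φ p * φ p) := by rw [S.comm']; group
    _ = φ (p * p) := by rw [S.xx, one_mul, map_mul]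

theorem Zs_sq (S : SSix x φ) {w : G} (hw : w ∈ Zs x φ) : w * w = 1 := by
  obtain ⟨q, hq, rfl | rfl⟩ := hw
  · rw [← map_mul, Z4_sq hq, map_one]
  · rw [sq_xphi S, Z4_sq hq, map_one]

theorem coset (S : SSix x φ) {t : G} (ht : t ∈ TT x φ) (h2 : t * t = 1) :
    t ∈ Zs x φ ∨ φ a0 * t ∈ Zs x φ ∨ φ e0 * t ∈ Zs x φ := by
  obtain ⟨p, hp, rfl | rfl⟩ := S.mem_TT_iff.1 ht
  · rw [← map_mul] at h2
    have h3 : p * p = 1 := S.inj (h2.trans (map_one φ).symm)
    rcases coset_dec p hp h3 with h | h | h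
    · exact Or.inl (Zs_phi h)
    · exact Or.inr (Or.inl ⟨_, h, Or.inl (map_mul φ _ _).symm⟩)
    · exact Or.inr (Or.inr ⟨_, h, Or.inl (map_mul φ _ _).symm⟩)
  · rw [sq_xphi S] at h2
    have h3 : p * p = 1 := S.inj (h2.trans (map_one φ).symm)
    have h4 : ∀ q : Perm (Fin 6), φ q * (x * φ p) = x * φ (q * p) := by
      intro q
      rw [← mul_assoc, S.comm', mul_assoc, map_mul]
    rcases coset_dec p hp h3 with h | h | h
    · exact Or.inl (Zs_xphi h)
    · exact Or.inr (Or.inl ⟨_, h, Or.inr (h4 _)⟩)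
    · exact Or.inr (Or.inr ⟨_, h, Or.inr (h4 _)⟩)

theorem aT (S : SSix x φ) : φ a0 ∈ TT x φ := S.mem_TT_iff.2 ⟨a0, ⟨by decide, by decide⟩, Or.inl rfl⟩
theorem eT (S : SSix x φ) : φ e0 ∈ TT x φ := S.mem_TT_iff.2 ⟨e0, ⟨by decide, by decide⟩, Or.inl rfl⟩

theorem aa : φ a0 * φ a0 = 1 := by rw [← map_mul, show a0 * a0 = 1 by decide, map_one]
theorem ee : φ e0 * φ e0 = 1 := by rw [← map_mul, show e0 * e0 = 1 by decide, map_one]

theorem ae_ne (S : SSix x φ) : φ a0 * φ e0 ≠ φ e0 * φ a0 := by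
  intro h
  rw [S.comm_iff] at h
  exact absurd h (by decide)

/-- conjugation by an element of the normalizer of `T` -/
theorem norm_T {n : G} (hn : n ∈ normalizer (TT x φ : Set G)) {t : G} (ht : t ∈ TT x φ) : n⁻¹ * t * n ∈ TT x φ :=
  (mem_normalizer_iff''.1 hn t).1 ht

theorem norm_T' {n : G} (hn : n ∈ normalizer (TT x φ : Set G)) {t : G} (ht : t ∈ TT x φ) : n * t * n⁻¹ ∈ TT x φ :=
  (mem_normalizer_iff.1 hn t).1 ht

theorem norm_Z (S : SSix x φ) {n : G} (hn : n ∈ normalizer (TT x φ : Set G)) {w : G} (hw : w ∈ Zs x φ) :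
    n⁻¹ * w * n ∈ Zs x φ := by
  apply Zs_of S (norm_T hn (Zs_T S hw))
  intro t ht
  have h1 := Zs_comm S hw _ (norm_T' hn ht)
  calc t * (n⁻¹ * w * n) = n⁻¹ * (n * t * n⁻¹ * w) * n := by group
    _ = n⁻¹ * (w * (n * t * n⁻¹)) * n := by rw [h1]
    _ = n⁻¹ * w * n * t := by group

theorem cj_mul (n a b : G) : n⁻¹ * (a * b) * n = (n⁻¹ * a * n) * (n⁻¹ * b * n) := by group

/-- the involution `s` of `T` with noncentral conjugate: one of the two cosets -/
theorem norm_coset (S : SSix x φ) {n : G} (hn : n ∈ normalizer (TT x φ : Set G)) {s s' : G} (hs : s ∈ TT x φ)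
    (hss : s * s = 1) (hs' : s' ∈ TT x φ) (h : s * s' ≠ s' * s) :
    φ a0 * (n⁻¹ * s * n) ∈ Zs x φ ∨ φ e0 * (n⁻¹ * s * n) ∈ Zs x φ := by
  have h2 : (n⁻¹ * s * n) * (n⁻¹ * s * n) = 1 := by rw [← cj_mul, hss]; group
  rcases coset S (norm_T hn hs) h2 with h3 | h3 | h3
  · exfalso
    have h4 := Zs_comm S h3 _ (norm_T hn hs')
    apply h
    rw [← cj_mul, ← cj_mul] at h4
    exact (mul_left_cancel (mul_right_cancel h4)).symm
  · exact Or.inl h3
  · exact Or.inr h3

/-- two elements of the same coset commute -/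
theorem same_coset (S : SSix x φ) {r s t : G} (hr : r * r = 1) (h1 : r * s ∈ Zs x φ)
    (h2 : r * t ∈ Zs x φ) (hs : s ∈ TT x φ) : s * t = t * s := by
  have h3 : t = r * (r * t) := by rw [← mul_assoc, hr, one_mul]
  have h4 : s = r * (r * s) := by rw [← mul_assoc, hr, one_mul]
  have h6 := Zs_comm S h2 _ hs
  have h7 := Zs_comm S h1 r
  by_cases hrT : r ∈ TT x φ
  · have h8 := h7 hrT
    have h9 : s * r = r * s := by
      have : s * r = r * (r * s) * r := by rw [← h4]
      rw [this, h8]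
      calc r * s * r * r = r * s * (r * r) := by group
        _ = r * s := by rw [hr, mul_one]
    calc s * t = s * (r * (r * t)) := by rw [← h3]
      _ = (s * r) * (r * t) := by group
      _ = (r * s) * (r * t) := by rw [h9]
      _ = r * (s * (r * t)) := by group
      _ = r * (r * t * s) := by rw [h6]
      _ = (r * r) * t * s := by group
      _ = t * s := by rw [hr, one_mul]
  · exfalso
    apply hrT
    have : r = (r * s) * s⁻¹ := by group
    rw [this]
    exact mul_mem (Zs_T S h1) (inv_mem hs)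

/-- `n²` preserves the cosets -/
theorem sq_coset (S : SSix x φ) {n : G} (hn : n ∈ normalizer (TT x φ : Set G)) :
    φ a0 * (n⁻¹ * (n⁻¹ * φ a0 * n) * n) ∈ Zs x φ ∧ φ e0 * (n⁻¹ * (n⁻¹ * φ e0 * n) * n) ∈ Zs x φ := by
  have aT := aT S
  have eT := eT S
  have aa := aa (φ := φ)
  have ee := ee (φ := φ)
  have hae := ae_ne S
  have ca := norm_coset S hn aT aa eT hae
  have ce := norm_coset S hn eT ee aT hae.symm
  have sqa : (n⁻¹ * φ a0 * n) * (n⁻¹ * φ a0 * n) = 1 := by rw [← cj_mul, aa]; group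
  have sqe : (n⁻¹ * φ e0 * n) * (n⁻¹ * φ e0 * n) = 1 := by rw [← cj_mul, ee]; group
  have hne : ¬ ((n⁻¹ * φ a0 * n) * (n⁻¹ * φ e0 * n) = (n⁻¹ * φ e0 * n) * (n⁻¹ * φ a0 * n)) := by
    rw [← cj_mul, ← cj_mul]
    intro h
    exact hae (mul_left_cancel (mul_right_cancel h))
  have comb : ∀ r s t : G, s * s = 1 → r * s ∈ Zs x φ → s * t ∈ Zs x φ → r * t ∈ Zs x φ := by
    intro r s t hss h1 h2
    have := Zs_mul S h1 h2
    rwa [show r * s * (s * t) = r * (s * s) * t by group, hss, mul_one] at this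
  rcases ca with ca | ca <;> rcases ce with ce | ce
  · exact absurd (same_coset S aa ca ce (norm_T hn aT)) hne
  · refine ⟨comb _ _ _ sqa ca ?_, comb _ _ _ sqe ce ?_⟩
    · have := norm_Z S hn ca
      rwa [cj_mul] at this
    · have := norm_Z S hn ce
      rwa [cj_mul] at this
  · refine ⟨comb _ _ _ sqe ce ?_, comb _ _ _ sqa ca ?_⟩
    · have := norm_Z S hn ca
      rwa [cj_mul] at this
    · have := norm_Z S hn ce
      rwa [cj_mul] at this
  · exact absurd (same_coset S ee ca ce (norm_T hn aT)) hne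

/-- even powers preserve the cosets -/
theorem even_coset (S : SSix x φ) {n : G} (hn : n ∈ normalizer (TT x φ : Set G)) (k : ℕ) :
    φ a0 * ((n ^ (2 * k))⁻¹ * φ a0 * n ^ (2 * k)) ∈ Zs x φ ∧
      φ e0 * ((n ^ (2 * k))⁻¹ * φ e0 * n ^ (2 * k)) ∈ Zs x φ := by
  induction k with
  | zero =>
    have h1 : (1 : G) ∈ Zs x φ := ⟨1, Or.inl rfl, Or.inl (map_one φ).symm⟩
    have e0' : ∀ g : G, (n ^ (2 * 0))⁻¹ * g * n ^ (2 * 0) = g := by intro g; simp
    constructor
    · rw [e0', aa]; exact h1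
    · rw [e0', ee]; exact h1
  | succ k ih =>
    have hnk : n ^ (2 * k) ∈ normalizer (TT x φ : Set G) := pow_mem hn _
    obtain ⟨h1, h2⟩ := sq_coset S hn
    have comb : ∀ r s t : G, s * s = 1 → r * s ∈ Zs x φ → s * t ∈ Zs x φ → r * t ∈ Zs x φ := by
      intro r s t hss h1 h2
      have := Zs_mul S h1 h2
      rwa [show r * s * (s * t) = r * (s * s) * t by group, hss, mul_one] at this
    have e1 : ∀ g : G, (n ^ (2 * (k + 1)))⁻¹ * g * n ^ (2 * (k + 1)) =
        (n ^ (2 * k))⁻¹ * (n⁻¹ * (n⁻¹ * g * n) * n) * n ^ (2 * k) := by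
      intro g
      rw [show 2 * (k + 1) = 1 + (1 + 2 * k) by ring, pow_add, pow_add, pow_one]
      group
    have sqa : ((n ^ (2 * k))⁻¹ * φ a0 * n ^ (2 * k)) * ((n ^ (2 * k))⁻¹ * φ a0 * n ^ (2 * k)) = 1 := by
      rw [← cj_mul, aa]; group
    have sqe : ((n ^ (2 * k))⁻¹ * φ e0 * n ^ (2 * k)) * ((n ^ (2 * k))⁻¹ * φ e0 * n ^ (2 * k)) = 1 := by
      rw [← cj_mul, ee]; group
    rw [e1, e1]
    refine ⟨comb _ _ _ sqa ih.1 ?_, comb _ _ _ sqe ih.2 ?_⟩
    · rw [← cj_mul]; exact norm_Z S hnk h1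
    · rw [← cj_mul]; exact norm_Z S hnk h2

/-- `T` is a Sylow 2-subgroup -/
theorem exists_sylow [Finite G] (S : SSix x φ) (h64 : ¬ 64 ∣ Nat.card G) :
    ∃ P : Sylow 2 G, (P : Subgroup G) = TT x φ := by
  have : Fact (Nat.Prime 2) := ⟨Nat.prime_two⟩
  have hp : IsPGroup 2 (TT x φ) := IsPGroup.of_card (n := 5) (by rw [S.card_TT]; norm_num)
  obtain ⟨P, hP⟩ := hp.exists_le_sylow
  refine ⟨P, ?_⟩
  obtain ⟨n, hn⟩ := IsPGroup.iff_card.1 P.isPGroup'
  have h3 : Nat.card (P : Subgroup G) = 2 ^ n := hn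
  have h4 : Nat.card (P : Subgroup G) ∣ Nat.card G := card_subgroup_dvd_card _
  have h5 : n ≤ 5 := by
    by_contra h
    apply h64
    have h6 : 2 ^ 6 ∣ 2 ^ n := pow_dvd_pow 2 (by omega)
    rw [h3] at h4
    exact (show 64 = 2 ^ 6 by norm_num) ▸ h6.trans h4
  symm
  apply eq_of_le_of_card_ge hP
  rw [h3, S.card_TT]
  calc 2 ^ n ≤ 2 ^ 5 := Nat.pow_le_pow_right (by norm_num) h5
    _ = 32 := by norm_num

/-- an element of `N(T)` has an odd power in `T` -/
theorem odd_pow [Finite G] (S : SSix x φ) (h64 : ¬ 64 ∣ Nat.card G) {n : G}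
    (hn : n ∈ normalizer (TT x φ : Set G)) : ∃ m, Odd m ∧ n ^ m ∈ TT x φ := by
  have : Fact (Nat.Prime 2) := ⟨Nat.prime_two⟩
  obtain ⟨P, hP⟩ := exists_sylow S h64
  obtain ⟨k, m, hm, hkm⟩ := Nat.exists_eq_two_pow_mul_odd (n := orderOf n) (orderOf_pos n).ne'
  refine ⟨m, hm, ?_⟩
  have h1 : IsPGroup 2 (zpowers (n ^ m)) := by
    apply IsPGroup.of_card (n := k)
    rw [Nat.card_zpowers, orderOf_pow, hkm, Nat.gcd_eq_right (Dvd.intro_left _ rfl),
      Nat.mul_div_cancel _ hm.pos]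
  have h2 := h1.inf_normalizer_sylow P
  have h3 : n ^ m ∈ zpowers (n ^ m) ⊓ normalizer (P : Set G) := by
    refine ⟨mem_zpowers _, ?_⟩
    have : (P : Set G) = (TT x φ : Set G) := by rw [← hP]; rfl
    rw [this]
    exact pow_mem hn m
  rw [h2] at h3
  rw [← hP]
  exact h3.2

/-- **fusion in `Z(T)`** by elements preserving the two cosets -/
theorem exists_good [Finite G] (S : SSix x φ) (h64 : ¬ 64 ∣ Nat.card G) {d e : G} (hd : d ∈ Zs x φ)
    (he : e ∈ Zs x φ) (h : IsConj d e) : ∃ n, n ∈ normalizer (TT x φ : Set G) ∧ n⁻¹ * d * n = e ∧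
      φ a0 * (n⁻¹ * φ a0 * n) ∈ Zs x φ ∧ φ e0 * (n⁻¹ * φ e0 * n) ∈ Zs x φ := by
  have : Fact (Nat.Prime 2) := ⟨Nat.prime_two⟩
  obtain ⟨P, hP⟩ := exists_sylow S h64
  obtain ⟨g, hg⟩ := isConj_iff.1 h
  have hPs : (P : Set G) = (TT x φ : Set G) := by rw [← hP]; rfl
  have hcen : ∀ w ∈ Zs x φ, w ∈ centralizer (P : Set G) := by
    intro w hw
    rw [hPs, mem_centralizer_iff]
    exact fun t ht => Zs_comm S hw t ht
  obtain ⟨n, hn, hn1⟩ := P.conj_eq_normalizer_conj_of_mem_centralizer d g⁻¹ (hcen d hd)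
    (by rw [inv_inv, hg]; exact hcen e he)
  rw [inv_inv, hg] at hn1
  rw [hPs] at hn
  obtain ⟨m, hm, hnm⟩ := odd_pow S h64 hn
  obtain ⟨k, hk⟩ := hm.add_odd odd_one
  refine ⟨n ^ (2 * k), pow_mem hn _, ?_, even_coset S hn k⟩
  rw [show 2 * k = m + 1 by omega, pow_succ]
  have h3 : (n ^ m)⁻¹ * d * n ^ m = d := by
    have := Zs_comm S hd _ hnm
    rw [mul_assoc, ← this, inv_mul_cancel_left]
  calc (n ^ m * n)⁻¹ * d * (n ^ m * n) = n⁻¹ * ((n ^ m)⁻¹ * d * n ^ m) * n := by group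
    _ = e := by rw [h3, hn1]

/-- `z = φ c₂` is not conjugate to another element of `Z(T)` -/
theorem z_unique [Finite G] (S : SSix x φ) (h64 : ¬ 64 ∣ Nat.card G) {w : G} (hw : w ∈ Zs x φ)
    (h : IsConj (φ c2) w) : w = φ c2 := by
  obtain ⟨n, hn, h1, h2, h3⟩ := exists_good S h64 (Zs_phi (by decide)) hw h
  have hz : φ c2 = φ a0 * φ e0 * φ a0 * φ e0 := by
    rw [← map_mul, ← map_mul, ← map_mul]
    congr 1
    decide
  obtain ⟨u, hu, hua⟩ : ∃ u ∈ Zs x φ, n⁻¹ * φ a0 * n = φ a0 * u := ⟨_, h2, by rw [← mul_assoc, aa, one_mul]⟩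
  obtain ⟨v, hv, hve⟩ : ∃ v ∈ Zs x φ, n⁻¹ * φ e0 * n = φ e0 * v := ⟨_, h3, by rw [← mul_assoc, ee, one_mul]⟩
  rw [← h1, hz, cj_mul, cj_mul, cj_mul, hua, hve]
  have c1' := Zs_comm S hu _ (eT S)
  have c2' := Zs_comm S hv _ (aT S)
  have c3' := Zs_comm S hu _ (aT S)
  have c4' := Zs_comm S hv _ (eT S)
  have c5' := Zs_comm S hv _ (Zs_T S hu)
  have huu := Zs_sq S hu
  have hvv := Zs_sq S hv
  calc φ a0 * u * (φ e0 * v) * (φ a0 * u) * (φ e0 * v)
      = φ a0 * (u * φ e0) * v * φ a0 * (u * φ e0) * v := by group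
    _ = φ a0 * (φ e0 * u) * v * φ a0 * (φ e0 * u) * v := by rw [c1']
    _ = φ a0 * φ e0 * (u * v) * φ a0 * φ e0 * (u * v) := by group
    _ = φ a0 * φ e0 * (u * (v * φ a0)) * φ e0 * (u * v) := by group
    _ = φ a0 * φ e0 * (u * (φ a0 * v)) * φ e0 * (u * v) := by rw [c2']
    _ = φ a0 * φ e0 * ((u * φ a0) * v) * φ e0 * (u * v) := by group
    _ = φ a0 * φ e0 * ((φ a0 * u) * v) * φ e0 * (u * v) := by rw [c3']
    _ = φ a0 * φ e0 * φ a0 * (u * (v * φ e0)) * (u * v) := by group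
    _ = φ a0 * φ e0 * φ a0 * (u * (φ e0 * v)) * (u * v) := by rw [c4']
    _ = φ a0 * φ e0 * φ a0 * ((u * φ e0) * v) * (u * v) := by group
    _ = φ a0 * φ e0 * φ a0 * ((φ e0 * u) * v) * (u * v) := by rw [c1']
    _ = φ a0 * φ e0 * φ a0 * φ e0 * (u * v * (u * v)) := by group
    _ = φ a0 * φ e0 * φ a0 * φ e0 := by
      rw [show u * v * (u * v) = (u * v) * (u * v) by rfl, c5',
        show v * u * (v * u) = v * (u * v) * u by group, c5',
        show v * (v * u) * u = (v * v) * (u * u) by group, huu, hvv, one_mul, mul_one]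

theorem conj_phi (S : SSix x φ) {p : Perm (Fin 6)} (h : IsConj x (φ p)) :
    (sup p = 2 ∧ IsConj x (φ c1)) ∨ (sup p = 6 ∧ IsConj x (φ c3)) := by
  have hp := S.sq_of_conj h
  rcases sup_cases hp with h1 | h1 | h1 | h1
  · rw [sup_eq_zero h1, map_one] at h
    exact absurd (isConj_one_left.1 h) S.x1
  · exact Or.inl ⟨h1, S.conj_class (conj_of_sup hp (by decide) (h1.trans sup_c1.symm)) h⟩
  · exact absurd (S.conj_class (conj_of_sup hp (by decide) (h1.trans sup_c2.symm)) h) S.not_c2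
  · exact Or.inr ⟨h1, S.conj_class (conj_of_sup hp (by decide) (h1.trans sup_c3.symm)) h⟩

theorem conj_xphi (S : SSix x φ) (hb : ¬ IsConj x (x * φ c2)) {p : Perm (Fin 6)} (h : IsConj x (x * φ p)) :
    sup p = 0 ∨ (sup p = 2 ∧ IsConj x (x * φ c1)) ∨ (sup p = 6 ∧ IsConj x (x * φ c3)) := by
  have hp := S.sq_of_conj' h
  rcases sup_cases hp with h1 | h1 | h1 | h1
  · exact Or.inl h1
  · exact Or.inr (Or.inl ⟨h1, S.conj_class' (conj_of_sup hp (by decide) (h1.trans sup_c1.symm)) h⟩)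
  · exact absurd (S.conj_class' (conj_of_sup hp (by decide) (h1.trans sup_c2.symm)) h) hb
  · exact Or.inr (Or.inr ⟨h1, S.conj_class' (conj_of_sup hp (by decide) (h1.trans sup_c3.symm)) h⟩)

theorem phi_mul_xphi (S : SSix x φ) (p q : Perm (Fin 6)) : φ p * (x * φ q) = x * φ (p * q) := by
  rw [← mul_assoc, S.comm', mul_assoc, map_mul]

theorem isConj_cj (n g : G) : IsConj g (n⁻¹ * g * n) := isConj_iff.2 ⟨n⁻¹, by rw [inv_inv]⟩

/-- **the order is divisible by 64** -/
theorem odd_case [Finite G] (hG : ∀ (m : G →* ℤˣ) (g : G), m g = 1) (S : SSix x φ)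
    (h64 : ¬ 64 ∣ Nat.card G) : False := by
  classical
  have t1 := S.tr_one hG
  have t2 := S.tr_two hG
  obtain ⟨k, hk⟩ := Parity.four_dvd hG S.xx
  have hn := S.ncard_all
  have hc := Parity.card_conj x
  rw [S.card] at hc
  have hodd : ¬ Even (Nat.card {d : G // IsConj x d}) := by
    rintro ⟨m, hm⟩
    apply h64
    exact ⟨45 * m, by omega⟩
  rw [hk, hn] at hodd
  have hb : ¬ IsConj x (x * φ c2) := by
    intro hb
    rw [if_pos hb] at t1 t2 hodd
    by_cases a1 : IsConj x (φ c1) <;> by_cases a2 : IsConj x (x * φ c1) <;> by_cases a3 : IsConj x (φ c3) <;>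
      by_cases a4 : IsConj x (x * φ c3) <;>
      simp only [a1, a2, a3, a4, if_true, if_false, Nat.even_iff] at t1 t2 hodd <;> omega
  rw [if_neg hb] at t1 t2 hodd
  have e1 : IsConj x (x * φ c1) ↔ ¬ IsConj x (x * φ c3) := by
    by_cases a2 : IsConj x (x * φ c1) <;> by_cases a4 : IsConj x (x * φ c3) <;>
      simp only [a2, a4, if_true, if_false, Nat.even_iff] at t1 ⊢ <;> first | omega | simp
  have e2 : IsConj x (φ c1) ↔ ¬ IsConj x (φ c3) := by
    by_cases a2 : IsConj x (φ c1) <;> by_cases a4 : IsConj x (φ c3) <;>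
      simp only [a2, a4, if_true, if_false, Nat.even_iff] at t2 ⊢ <;> first | omega | simp
  have haa := aa (φ := φ)
  by_cases a1 : IsConj x (φ c1)
  · have a3 : ¬ IsConj x (φ c3) := e2.1 a1
    obtain ⟨n, hn, h1, h2, h3⟩ := exists_good S h64 Zs_x (Zs_phi (q := c1) (by decide)) a1
    obtain ⟨w, hw, hwa⟩ : ∃ w ∈ Zs x φ, n⁻¹ * φ a0 * n = φ a0 * w := ⟨_, h2, by rw [← mul_assoc, haa, one_mul]⟩
    have m1 : IsConj x (φ a0 * w) := by
      rw [← hwa]
      exact (S.conj_class (conj_of_sup (by decide) (by decide) (by decide)) a1).trans (isConj_cj n _)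
    have m2 : n⁻¹ * (x * φ a0) * n = φ c1 * (φ a0 * w) := by rw [cj_mul, h1, hwa]
    by_cases a2 : IsConj x (x * φ c1)
    · have a4 : ¬ IsConj x (x * φ c3) := e1.1 a2
      have m3 : IsConj x (φ c1 * (φ a0 * w)) := by
        rw [← m2]
        exact (S.conj_class' (conj_of_sup (by decide) (by decide) (by decide)) a2).trans (isConj_cj n _)
      obtain ⟨q, hq, rfl | rfl⟩ := hw
      · rw [← map_mul] at m1
        rw [← map_mul, ← map_mul] at m3
        have k1 := conj_phi S m1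
        have k3 := conj_phi S m3
        revert k1 k3
        rcases hq with rfl | rfl | rfl | rfl <;> simp only [a1, a3, and_true, and_false, or_false] <;> decide
      · rw [phi_mul_xphi S] at m1
        rw [phi_mul_xphi S, phi_mul_xphi S] at m3
        have k1 := conj_xphi S hb m1
        have k3 := conj_xphi S hb m3
        revert k1 k3
        rcases hq with rfl | rfl | rfl | rfl <;> simp only [a2, a4, and_true, and_false, or_false] <;> decide
    · have a4 : IsConj x (x * φ c3) := by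
        by_contra h
        exact a2 (e1.2 h)
      obtain ⟨q, hq, rfl | rfl⟩ := hw
      · rw [← map_mul] at m1
        rw [← map_mul, ← map_mul] at m2
        have k1 := conj_phi S m1
        have k2 : sup (c1 * (a0 * q)) = 4 ∧ (c1 * (a0 * q)) * (c1 * (a0 * q)) = 1 := by
          revert k1
          rcases hq with rfl | rfl | rfl | rfl <;> simp only [a1, a3, and_true, and_false, or_false] <;> decide
        have k3 : IsConj (x * φ c1) (φ (c1 * (a0 * q))) := by
          rw [← m2]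
          refine IsConj.trans ?_ (isConj_cj n _)
          obtain ⟨r, hr⟩ := isConj_iff.1 (conj_of_sup (p := c1) (q := a0) (by decide) (by decide) (by decide))
          exact isConj_iff.2 ⟨φ r, by rw [S.conj_mul, hr]⟩
        have k4 : IsConj (φ c2) (φ (c1 * (a0 * q))) := by
          obtain ⟨r, hr⟩ := isConj_iff.1 (conj_of_sup (p := c2) (by decide) k2.2 (sup_c2.trans k2.1.symm))
          exact isConj_iff.2 ⟨φ r, by rw [← map_inv, ← map_mul, ← map_mul, hr]⟩
        have k5 := z_unique S h64 (Zs_xphi (q := c1) (by decide)) (k4.trans k3.symm)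
        exact S.ne _ _ k5.symm
      · rw [phi_mul_xphi S] at m1
        have k1 := conj_xphi S hb m1
        revert k1
        rcases hq with rfl | rfl | rfl | rfl <;> simp only [a2, a4, and_true, and_false, or_false, false_or] <;>
          decide
  · have a3 : IsConj x (φ c3) := by
      by_contra h
      exact a1 (e2.2 h)
    by_cases a2 : IsConj x (x * φ c1)
    · have a4 : ¬ IsConj x (x * φ c3) := e1.1 a2
      obtain ⟨n, hn, h1, h2, h3⟩ := exists_good S h64 Zs_x (Zs_xphi (q := c1) (by decide)) a2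
      obtain ⟨w, hw, hwa⟩ : ∃ w ∈ Zs x φ, n⁻¹ * φ a0 * n = φ a0 * w :=
        ⟨_, h2, by rw [← mul_assoc, haa, one_mul]⟩
      have m2 : n⁻¹ * (x * φ a0) * n = (x * φ c1) * (φ a0 * w) := by rw [cj_mul, h1, hwa]
      have m1 : IsConj x ((x * φ c1) * (φ a0 * w)) := by
        rw [← m2]
        exact (S.conj_class' (conj_of_sup (by decide) (by decide) (by decide)) a2).trans (isConj_cj n _)
      obtain ⟨q, hq, rfl | rfl⟩ := hw
      · have e3 : (x * φ c1) * (φ a0 * φ q) = x * φ (c1 * (a0 * q)) := by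
          rw [map_mul, map_mul]; group
        rw [e3] at m1
        have k1 := conj_xphi S hb m1
        have k2 : sup (a0 * q) = 4 ∧ (a0 * q) * (a0 * q) = 1 := by
          revert k1
          rcases hq with rfl | rfl | rfl | rfl <;> simp only [a2, a4, and_true, and_false, or_false] <;> decide
        have k3 : IsConj (φ c1) (φ (a0 * q)) := by
          rw [map_mul, ← hwa]
          refine IsConj.trans ?_ (isConj_cj n _)
          obtain ⟨r, hr⟩ := isConj_iff.1 (conj_of_sup (p := c1) (q := a0) (by decide) (by decide) (by decide))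
          exact isConj_iff.2 ⟨φ r, by rw [← map_inv, ← map_mul, ← map_mul, hr]⟩
        have k4 : IsConj (φ c2) (φ (a0 * q)) := by
          obtain ⟨r, hr⟩ := isConj_iff.1 (conj_of_sup (p := c2) (by decide) k2.2 (sup_c2.trans k2.1.symm))
          exact isConj_iff.2 ⟨φ r, by rw [← map_inv, ← map_mul, ← map_mul, hr]⟩
        have k5 := z_unique S h64 (Zs_phi (q := c1) (by decide)) (k4.trans k3.symm)
        exact absurd (S.inj k5) (by decide)
      · have e3 : (x * φ c1) * (φ a0 * (x * φ q)) = φ (c1 * (a0 * q)) := by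
          rw [phi_mul_xphi S]
          calc x * φ c1 * (x * φ (a0 * q)) = x * (φ c1 * x) * φ (a0 * q) := by group
            _ = (x * x) * (φ c1 * φ (a0 * q)) := by rw [S.comm']; group
            _ = φ (c1 * (a0 * q)) := by rw [S.xx, one_mul, ← map_mul]
        rw [e3] at m1
        have k1 := conj_phi S m1
        revert k1
        rcases hq with rfl | rfl | rfl | rfl <;> simp only [a1, a3, and_true, and_false, or_false, false_or] <;>
          decide
    · have a4 : IsConj x (x * φ c3) := by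
        by_contra h
        exact a2 (e1.2 h)
      obtain ⟨n, hn, h1, h2, h3⟩ := exists_good S h64 Zs_x (Zs_phi (q := c3) (by decide)) a3
      have hee := ee (φ := φ)
      obtain ⟨w, hw, hwa⟩ : ∃ w ∈ Zs x φ, n⁻¹ * φ (e0 * c1) * n = φ e0 * w := by
        refine ⟨_, Zs_mul S h3 (norm_Z S hn (Zs_phi (q := c1) (by decide))), ?_⟩
        rw [map_mul, cj_mul]
        calc (n⁻¹ * φ e0 * n) * (n⁻¹ * φ c1 * n) = (φ e0 * φ e0) * ((n⁻¹ * φ e0 * n) * (n⁻¹ * φ c1 * n)) := by
              rw [hee, one_mul]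
          _ = φ e0 * (φ e0 * (n⁻¹ * φ e0 * n) * (n⁻¹ * φ c1 * n)) := by group
      have m1 : IsConj x (φ e0 * w) := by
        rw [← hwa]
        exact (S.conj_class (conj_of_sup (by decide) (by decide) (by decide)) a3).trans (isConj_cj n _)
      have m2 : n⁻¹ * (x * φ (e0 * c1)) * n = φ c3 * (φ e0 * w) := by rw [cj_mul, h1, hwa]
      have m3 : IsConj x (φ c3 * (φ e0 * w)) := by
        rw [← m2]
        exact (S.conj_class' (conj_of_sup (by decide) (by decide) (by decide)) a4).trans (isConj_cj n _)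
      obtain ⟨q, hq, rfl | rfl⟩ := hw
      · rw [← map_mul] at m1
        rw [← map_mul, ← map_mul] at m3
        have k1 := conj_phi S m1
        have k3 := conj_phi S m3
        revert k1 k3
        rcases hq with rfl | rfl | rfl | rfl <;> simp only [a1, a3, and_true, and_false, or_false, false_or] <;>
          decide
      · rw [phi_mul_xphi S] at m1
        rw [phi_mul_xphi S, phi_mul_xphi S] at m3
        have k1 := conj_xphi S hb m1
        have k3 := conj_xphi S hb m3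
        revert k1 k3
        rcases hq with rfl | rfl | rfl | rfl <;> simp only [a2, a4, and_true, and_false, or_false, false_or] <;>
          decide

/-- **reduction to the uniform pattern** -/
theorem reduce64 [Finite G] (hG : ∀ (m : G →* ℤˣ) (g : G), m g = 1) (h64 : 64 ∣ Nat.card G)
    (S : SSix x φ) : ∃ φ' : Perm (Fin 6) →* G, Uni x φ' := by
  classical
  have t1 := S.tr_one hG
  have t2 := S.tr_two hG
  obtain ⟨k, hk⟩ := Parity.four_dvd hG S.xx
  have hn := S.ncard_all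
  have hc := Parity.card_conj x
  rw [S.card] at hc
  have heven : Even (Nat.card {d : G // IsConj x d}) := by
    by_contra h
    rw [Nat.not_even_iff_odd] at h
    obtain ⟨m, hm⟩ := h
    obtain ⟨l, hl⟩ := h64
    omega
  rw [hk, hn] at heven
  have hb : IsConj x (x * φ c2) := by
    by_contra hb
    rw [if_neg hb] at t1 t2 heven
    by_cases a1 : IsConj x (φ c1) <;> by_cases a2 : IsConj x (x * φ c1) <;> by_cases a3 : IsConj x (φ c3) <;>
      by_cases a4 : IsConj x (x * φ c3) <;>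
      simp only [a1, a2, a3, a4, if_true, if_false, Nat.even_iff] at t1 t2 heven <;> omega
  have e1 : IsConj x (x * φ c1) ↔ IsConj x (x * φ c3) := by
    rw [if_pos hb] at t1
    by_cases a2 : IsConj x (x * φ c1) <;> by_cases a4 : IsConj x (x * φ c3) <;>
      simp only [a2, a4, if_true, if_false, Nat.even_iff] at t1 ⊢ <;> omega
  have e2 : IsConj x (φ c1) ↔ IsConj x (φ c3) := by
    rw [if_pos hb] at t2
    by_cases a2 : IsConj x (φ c1) <;> by_cases a4 : IsConj x (φ c3) <;>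
      simp only [a2, a4, if_true, if_false, Nat.even_iff] at t2 ⊢ <;> omega
  by_cases a1 : IsConj x (φ c1)
  · by_cases a2 : IsConj x (x * φ c1)
    · exact (S.no_all h64 a1 a2 (e2.1 a1) hb (e1.1 a2)).elim
    · -- the twist
      refine ⟨_, S.spl_twist.uni_of ?_ ?_ ?_ ?_ ?_⟩
      · rw [SSix.twist_of_odd _ _ (by decide)]; exact a2
      · rw [SSix.twist_of_odd _ _ (by decide), ← mul_assoc, S.xx, one_mul]; exact a1
      · rw [SSix.twist_of_odd _ _ (by decide)]; exact fun h => a2 (e1.2 h)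
      · rw [SSix.twist_of_even _ _ (by decide)]; exact hb
      · rw [SSix.twist_of_odd _ _ (by decide), ← mul_assoc, S.xx, one_mul]; exact e2.1 a1
  · by_cases a2 : IsConj x (x * φ c1)
    · exact ⟨φ, S.uni_of a1 a2 (fun h => a1 (e2.2 h)) hb (e1.1 a2)⟩
    · exfalso
      have a3 : ¬ IsConj x (φ c3) := fun h => a1 (e2.2 h)
      have a4 : ¬ IsConj x (x * φ c3) := fun h => a2 (e1.2 h)
      rw [if_neg a1, if_neg a2, if_neg a3, if_neg a4, if_pos hb] at hn
      refine S.caseA ?_ a1 a2 a3 hb a4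
      rintro ⟨l, hl⟩
      omega

end Cfsg.Agent.H949.SixOdd
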